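import Cfsg.Agent.H66.LD.F23Loc
import Mathlib.GroupTheory.Perm.Centralizer

/-!
# S4910, the row `Fi₂₃`, `killB`: the sum over the class 3A (helper343)
-/

set_option autoImplicit false
set_option maxRecDepth 100000

namespace Cfsg.Agent.H343.LD.Cls7

open Cfsg Subgroup Cfsg.Agent.LThreeFi23
open Cfsg.Agent.H838.Fi23 (SL L7)
open Cfsg.Agent.H66.LD.F23
open Cfsg.Agent.H343.LD
open Cfsg.Spor (Fi23)

theorem card_three : (Finset.univ.filter fun σ : S7 => σ.cycleType = {3}).card = 70 := by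
  have h := Equiv.Perm.card_of_cycleType_singleton (α := Fin 7) (n := 3) (by norm_num) (by simp)
  rw [Fintype.card_fin] at h
  rw [h]
  rfl

theorem ab_eq : f7 (Equiv.swap 0 1 * Equiv.swap 1 2) = el .a * el .b := by rw [map_mul, f7_a, f7_b]

theorem three_ab : (Equiv.swap 0 1 * Equiv.swap 1 2 : S7).cycleType = {3} := by
  have h : (Equiv.swap (1 : Fin 7) 0 * Equiv.swap 1 2 : S7).IsThreeCycle :=
    Equiv.Perm.isThreeCycle_swap_mul_swap_same (by decide) (by decide) (by decide)
  rw [Equiv.swap_comm (1 : Fin 7) 0] at h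
  exact h

/-- **the sum over 3A** -/
theorem cls3 [Fintype (SL L7)] (θ : SL L7 → ℂ) (t15 : S7 → ℤ) (h : ∀ s, θ (e7 s) = t15 s)
    (h3 : ∀ s : S7, s.IsThreeCycle → t15 s = 3) (h33 : ∀ s : S7, s.cycleType = {3, 3} → t15 s = 0) {g : Fi23}
    (hg : IsConj (el .a * el .b) g) : ∑ s ∈ cls (SL L7) g, θ s = 210 := by
  classical
  have h1 : ∑ s ∈ cls (SL L7) g, θ s = ∑ σ ∈ Finset.univ.filter (fun σ : S7 => IsConj g (f7 σ)), (t15 σ : ℂ) := by
    symm
    refine Finset.sum_bij' (i := fun σ _ => e7 σ) (j := fun s _ => e7.symm s) ?_ ?_ ?_ ?_ ?_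
    · intro σ hσ
      rw [mem_cls]
      exact (Finset.mem_filter.1 hσ).2
    · intro s hs
      rw [mem_cls] at hs
      rw [Finset.mem_filter]
      refine ⟨Finset.mem_univ _, ?_⟩
      rw [← e7_coe, e7.apply_symm_apply]
      exact hs
    · intro σ _
      exact e7.symm_apply_apply σ
    · intro s _
      exact e7.apply_symm_apply s
    · intro σ _
      exact (h σ).symm
  have ho : ∀ {x y : Fi23}, IsConj x y → orderOf x = orderOf y := by
    intro x y hxy
    obtain ⟨c, rfl⟩ := isConj_iff.1 hxy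
    exact (MulEquiv.orderOf_eq (MulAut.conj c) x).symm
  have hab : orderOf (Equiv.swap 0 1 * Equiv.swap 1 2 : S7) = 3 := Equiv.Perm.IsThreeCycle.orderOf three_ab
  have h2 : ∑ σ ∈ Finset.univ.filter (fun σ : S7 => IsConj g (f7 σ)), (t15 σ : ℂ) =
      ∑ σ ∈ Finset.univ.filter (fun σ : S7 => σ.cycleType = {3}), (t15 σ : ℂ) := by
    symm
    refine Finset.sum_subset ?_ ?_
    · intro σ hσ
      rw [Finset.mem_filter] at hσ ⊢
      refine ⟨Finset.mem_univ _, ?_⟩
      have h4 : IsConj (Equiv.swap 0 1 * Equiv.swap 1 2 : S7) σ :=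
        Equiv.Perm.isConj_iff_cycleType_eq.2 (three_ab.trans hσ.2.symm)
      have h5 := f7.map_isConj h4
      rw [ab_eq] at h5
      exact hg.symm.trans h5
    · intro σ hσ hn
      rw [Finset.mem_filter] at hσ
      have h4 : orderOf σ = 3 := by
        have h5 := ho (hg.trans hσ.2)
        rw [← ab_eq, orderOf_injective f7 f7_inj, orderOf_injective f7 f7_inj, hab] at h5
        exact h5.symm
      obtain ⟨n, h6⟩ := Equiv.Perm.cycleType_prime_order (σ := σ) (by rw [h4]; norm_num)
      rw [h4] at h6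
      have h7 := Equiv.Perm.sum_cycleType_le σ
      rw [h6, Multiset.sum_replicate, Fintype.card_fin, smul_eq_mul] at h7
      have h8 : n = 0 ∨ n = 1 := by omega
      rcases h8 with rfl | rfl
      · exfalso
        apply hn
        rw [Finset.mem_filter]
        exact ⟨Finset.mem_univ _, h6⟩
      · rw [h33 σ h6]
        norm_num
  rw [h1, h2, Finset.sum_congr rfl (g := fun _ => (3 : ℂ)), Finset.sum_const, card_three, nsmul_eq_mul]
  · norm_num
  · intro σ hσ
    rw [h3 σ (Finset.mem_filter.1 hσ).2]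
    norm_num

end Cfsg.Agent.H343.LD.Cls7
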