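import Cfsg.Agent.SmallSimple.ThetaSetup
import Cfsg.Agent.SmallSimple.InvolColumn
import Cfsg.Agent.Characters.ClassMul
import Cfsg.Agent.Characters.GaloisBasic
import Cfsg.Agent.Characters.DefectZero
import Cfsg.Agent.H935.Fi23.MPart
import Cfsg.Agent.S0145

/-!
# Columns of elements of prime order with `C(x) = ⟨x⟩ × K` and a character of defect zero of `K` (helper343)

* `Loc p x K` : `x` has prime order `p`, `C(x) = ⟨x⟩ × K`, the powers of `x` are conjugate under `C(K)`;
* `Loc.col` : the integers `w χ = ⟨χ(x ·), θ⟩`, `∑ w² = p`, `∑ w χ(g) = 0` for `p`-regular `g`, and the congruence of the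
  central characters modulo `p`.
-/

set_option autoImplicit false
set_option linter.unusedSectionVars false

namespace Cfsg.Agent.H343.LD

open Cfsg Subgroup Cfsg.Agent.Characters Cfsg.Agent.Characters.Core Cfsg.Agent.SmallSimple.ThetaSetup
open Cfsg.Agent.SmallSimple
open scoped ComplexConjugate

universe u

variable {G : Type u} [Group G]

/-- `C(x) = ⟨x⟩ × K`, `x` of order `p`, and all generators of `⟨x⟩` are conjugate to `x` by elements centralizing `K` -/
structure Loc (p : ℕ) (x : G) (K : Subgroup G) : Prop where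
  ord : orderOf x = p
  le : K ≤ centralizer ({x} : Set G)
  dec : ∀ c ∈ centralizer ({x} : Set G), ∃ i : ℕ, ∃ k ∈ K, c = x ^ i * k
  nmem : ∀ i : ℕ, x ^ i ∈ K → x ^ i = 1
  real : ∀ i : ℕ, i.Coprime p → ∃ n : G, n * x * n⁻¹ = x ^ i ∧ ∀ k ∈ K, n * k = k * n

open scoped Classical in
/-- the elements of `K` that are conjugate to `g` in `G` -/
noncomputable def cls (K : Subgroup G) [Fintype K] (g : G) : Finset K := Finset.univ.filter fun s : K => IsConj g (s : G)

theorem mem_cls {K : Subgroup G} [Fintype K] {g : G} {s : K} : s ∈ cls K g ↔ IsConj g (s : G) := by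
  simp [cls]

/-- the central character -/
noncomputable def om (χ : G → ℂ) (g : G) : ℂ := ((centralizer ({g} : Set G)).index : ℂ) * χ g / χ 1

theorem isIntegral_om [Finite G] (χ : IrrCharacter G) (g : G) : IsIntegral ℤ (om (χ : G → ℂ) g) := by
  obtain ⟨n, ρ, hρ, he⟩ := χ.2
  have h1 := Cfsg.Agent.S0141.result ρ g
  unfold om
  rw [← he, Representation.char_one]
  exact h1

/-- a character of defect zero vanishes at the singular elements -/
theorem dz_vanish {K : Type u} [Group K] [Finite K] {p : ℕ} (hp : p.Prime) (θ : IrrCharacter K)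
    (h : (charDegree (θ : K → ℂ)).factorization p = (Nat.card K).factorization p) {k : K} (hk : p ∣ orderOf k) :
    (θ : K → ℂ) k = 0 := by
  classical
  have := Fintype.ofFinite K
  have hdeg := Cfsg.Agent.Blocks.Basic.irr_one_eq_charDegree θ.2
  have hne : charDegree (θ : K → ℂ) ≠ 0 := by
    intro h0
    rw [h0] at hdeg
    exact isIrr_apply_one_ne_zero θ.2 (by rw [hdeg]; simp)
  obtain ⟨n, ρ, hρ, he⟩ := θ.2
  have h1 := DefectZero.character_inv_eq_zero ρ hρ p ((Nat.card K).factorization p) hp (Nat.ordProj_dvd _ _)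
    (Nat.pow_succ_factorization_not_dvd Nat.card_pos.ne' hp) (by
      have h2 : (Module.finrank ℂ (Fin n → ℂ)) = charDegree (θ : K → ℂ) := by
        have h3 : ((Module.finrank ℂ (Fin n → ℂ) : ℕ) : ℂ) = (charDegree (θ : K → ℂ) : ℂ) := by
          rw [← hdeg, ← he, Representation.char_one]
        exact_mod_cast h3
      rw [h2, ← h]
      exact Nat.ordProj_dvd _ _) k⁻¹ (by rwa [orderOf_inv])
  rw [← he]
  rwa [inv_inv] at h1

section Aux

variable {K : Type u} [Group K] [Fintype K]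

theorem sum_invariant (S : Finset K) (hS : ∀ s ∈ S, ∀ a : K, a * s * a⁻¹ ∈ S) (φ : IrrCharacter K) (k : K) :
    ∑ s ∈ S, (φ : K → ℂ) (k * s) = (∑ s ∈ S, (φ : K → ℂ) s) / (φ : K → ℂ) 1 * (φ : K → ℂ) k := by
  have hcard : (Nat.card K : ℂ) ≠ 0 := by exact_mod_cast Nat.card_pos.ne'
  refine mul_left_cancel₀ hcard ?_
  have h1 : ∀ a : K, ∑ s ∈ S, (φ : K → ℂ) (k * s) = ∑ s ∈ S, (φ : K → ℂ) (a * s * a⁻¹ * k) := by
    intro a
    refine Finset.sum_bij' (i := fun s _ => a⁻¹ * s * a) (j := fun s _ => a * s * a⁻¹) ?_ ?_ ?_ ?_ ?_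
    · intro s hs
      have := hS s hs a⁻¹
      rwa [inv_inv] at this
    · intro s hs
      exact hS s hs a
    · intro s _
      group
    · intro s _
      group
    · intro s _
      rw [Blocks.Basic.irr_mul_comm φ.2]
      group
  have h2 : (Nat.card K : ℂ) * ∑ s ∈ S, (φ : K → ℂ) (k * s) = ∑ a : K, ∑ s ∈ S, (φ : K → ℂ) (a * s * a⁻¹ * k) := by
    rw [← Finset.sum_congr rfl fun a _ => h1 a, Finset.sum_const, Finset.card_univ, nsmul_eq_mul,
      Nat.card_eq_fintype_card]
  rw [h2, Finset.sum_comm, Finset.sum_congr rfl fun s _ => Central.sum_char_conj_mul φ.2 s k, Finset.sum_div,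
    Finset.sum_mul, Finset.mul_sum]
  refine Finset.sum_congr rfl fun s _ => ?_
  ring

theorem isIntegral_conj {z : ℂ} (h : IsIntegral ℤ z) : IsIntegral ℤ (conj z) :=
  h.map (RingHom.toIntAlgHom (starRingEnd ℂ))

theorem isIntegral_sum {z : K → ℂ} (hz : IsClassFunction K z) (hi : ∀ k, IsIntegral ℤ (z k)) (θ : IrrCharacter K) :
    IsIntegral ℤ ((∑ k, conj ((θ : K → ℂ) k) * z k) / (θ : K → ℂ) 1) := by
  classical
  have : Fintype (ConjClasses K) := Fintype.ofFinite _
  rw [← Finset.sum_fiberwise (g := fun k : K => ConjClasses.mk k), Finset.sum_div]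
  refine IsIntegral.sum _ fun C _ => ?_
  obtain ⟨l, rfl⟩ := ConjClasses.exists_rep C
  have h1 : ∀ k ∈ Finset.univ.filter (fun k : K => ConjClasses.mk k = ConjClasses.mk l),
      conj ((θ : K → ℂ) k) * z k = conj ((θ : K → ℂ) l) * z l := by
    intro k hk
    obtain ⟨c, hc⟩ := isConj_iff.1 (ConjClasses.mk_eq_mk_iff_isConj.1 (Finset.mem_filter.1 hk).2)
    rw [← hc, hz, isIrr_isClassFunction θ.2]
  have h2 : (Finset.univ.filter (fun k : K => ConjClasses.mk k = ConjClasses.mk l)).card =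
      (centralizer ({l} : Set K)).index := by
    rw [← ClassMul.card_filter_isConj l]
    congr 1
    ext k
    simp only [Finset.mem_filter, Finset.mem_univ, true_and]
    rw [ConjClasses.mk_eq_mk_iff_isConj, isConj_comm]
  rw [Finset.sum_congr rfl h1, Finset.sum_const, h2, nsmul_eq_mul]
  have h3 := isIntegral_conj (isIntegral_om θ l)
  obtain ⟨n, -, hn⟩ := isIrr_apply_one θ.2
  have h4 : ((centralizer ({l} : Set K)).index : ℂ) * (conj ((θ : K → ℂ) l) * z l) / (θ : K → ℂ) 1 =
      conj (om (θ : K → ℂ) l) * z l := by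
    unfold om
    rw [map_div₀, map_mul, map_natCast, hn, map_natCast]
    ring
  rw [h4]
  exact h3.mul (hi l)

end Aux

namespace Loc

variable {p : ℕ} {x : G} {K : Subgroup G}

theorem comm (h : Loc p x K) {k : G} (hk : k ∈ K) : x * k = k * x :=
  (mem_centralizer_singleton_iff.1 (h.le hk)).symm

theorem pow_p (h : Loc p x K) : x ^ p = 1 := by rw [← h.ord]; exact pow_orderOf_eq_one x

/-- `p`-regular elements of `C(x)` lie in `K` -/
theorem mem_of_reg (h : Loc p x K) (hp : p.Prime) {s : G} (hs : s ∈ centralizer ({x} : Set G)) (hr : ¬ p ∣ orderOf s) :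
    s ∈ K := by
  obtain ⟨i, k, hk, rfl⟩ := h.dec s hs
  have hc : Commute (x ^ i) k := (show Commute x k from h.comm hk).pow_left i
  set n := orderOf (x ^ i * k) with hn
  have h1 : (x ^ i) ^ n * k ^ n = 1 := by rw [← hc.mul_pow, hn]; exact pow_orderOf_eq_one _
  have h2 : x ^ (i * n) ∈ K := by
    rw [pow_mul, eq_inv_of_mul_eq_one_left h1]
    exact inv_mem (pow_mem hk n)
  have h3 := h.nmem _ h2
  have h4 : p ∣ i * n := by rw [← h.ord]; exact orderOf_dvd_of_pow_eq_one h3
  have h5 : p ∣ i := (hp.dvd_mul.1 h4).resolve_right hr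
  have h6 : x ^ i = 1 := by
    obtain ⟨j, rfl⟩ := h5
    rw [pow_mul, h.pow_p, one_pow]
  rw [h6, one_mul]
  exact hk

/-- for regular `k, l ∈ K` : `x k` and `x l` are conjugate iff `k` and `l` are conjugate in `K` -/
theorem conj_of (h : Loc p x K) (hp : p.Prime) {k l : K} (hk : ¬ p ∣ orderOf k) (hl : ¬ p ∣ orderOf l) {g : G}
    (hg : g * (x * k) * g⁻¹ = x * l) : g ∈ centralizer ({x} : Set G) ∧ g * k * g⁻¹ = l := by
  have hk' : ¬ p ∣ orderOf (k : G) := by rwa [Subgroup.orderOf_coe]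
  have hl' : ¬ p ∣ orderOf (l : G) := by rwa [Subgroup.orderOf_coe]
  obtain ⟨n, hn1, hn2⟩ : ∃ n : ℕ, n ≡ 1 [MOD p] ∧ n ≡ 0 [MOD (orderOf (k : G) * orderOf (l : G))] := by
    have hcop : p.Coprime (orderOf (k : G) * orderOf (l : G)) :=
      Nat.Coprime.mul_right ((Nat.Prime.coprime_iff_not_dvd hp).2 hk') ((Nat.Prime.coprime_iff_not_dvd hp).2 hl')
    exact ⟨_, (Nat.chineseRemainder hcop 1 0).2⟩
  have h1 : ∀ m : K, orderOf (m : G) ∣ orderOf (k : G) * orderOf (l : G) → (x * (m : G)) ^ n = x := by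
    intro m hm
    rw [(show Commute x (m : G) from h.comm m.2).mul_pow]
    have h2 : (m : G) ^ n = 1 := by
      rw [← orderOf_dvd_iff_pow_eq_one]
      exact hm.trans ((Nat.modEq_zero_iff_dvd).1 hn2)
    have h3 : x ^ n = x := by
      conv_rhs => rw [← pow_one x]
      rw [pow_eq_pow_iff_modEq, h.ord]
      exact hn1
    rw [h2, h3, mul_one]
  have h4 : g * x * g⁻¹ = x := by
    have h5 := congrArg (fun y => y ^ n) hg
    simp only [conj_pow] at h5
    rwa [h1 k (Dvd.intro _ rfl), h1 l (Dvd.intro_left _ rfl)] at h5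
  refine ⟨?_, ?_⟩
  · rw [mem_centralizer_singleton_iff]
    calc g * x = g * x * g⁻¹ * g := by group
      _ = x * g := by rw [h4]
  · have h5 : g * (x * k) * g⁻¹ = (g * x * g⁻¹) * (g * k * g⁻¹) := by group
    rw [h5, h4] at hg
    exact mul_left_cancel hg

theorem isConj_iff_of (h : Loc p x K) (hp : p.Prime) {k l : K} (hk : ¬ p ∣ orderOf k) (hl : ¬ p ∣ orderOf l) :
    IsConj (x * (k : G)) (x * (l : G)) ↔ IsConj k l := by
  constructor
  · intro hc
    obtain ⟨g, hg⟩ := isConj_iff.1 hc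
    obtain ⟨h1, h2⟩ := h.conj_of hp hk hl hg
    obtain ⟨i, m, hm, rfl⟩ := h.dec g h1
    refine isConj_iff.2 ⟨⟨m, hm⟩, Subtype.ext ?_⟩
    show m * (k : G) * m⁻¹ = l
    rw [← h2]
    have hc1 : Commute (x ^ i) (m * (k : G) * m⁻¹) :=
      (show Commute x _ from h.comm (mul_mem (mul_mem hm k.2) (inv_mem hm))).pow_left i
    calc m * (k : G) * m⁻¹ = (m * (k : G) * m⁻¹) * (x ^ i) * (x ^ i)⁻¹ := by group
      _ = (x ^ i) * (m * (k : G) * m⁻¹) * (x ^ i)⁻¹ := by rw [hc1.eq]
      _ = _ := by group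
  · intro hc
    obtain ⟨m, hm⟩ := isConj_iff.1 hc
    refine isConj_iff.2 ⟨m, ?_⟩
    have h1 : (m : G) * (k : G) * (m : G)⁻¹ = l := congrArg Subtype.val hm
    rw [← h1]
    calc (m : G) * (x * k) * (m : G)⁻¹ = ((m : G) * x) * k * (m : G)⁻¹ := by group
      _ = (x * m) * k * (m : G)⁻¹ := by rw [h.comm m.2]
      _ = _ := by group

/-- the centralizer of `x k` -/
theorem card_cent (h : Loc p x K) [Finite G] (hp : p.Prime) {k : K} (hk : ¬ p ∣ orderOf k) :
    Nat.card (centralizer ({x * (k : G)} : Set G)) = p * Nat.card (centralizer ({k} : Set K)) := by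
  have hx : orderOf x = p := h.ord
  let f : zpowers x × centralizer ({k} : Set K) → centralizer ({x * (k : G)} : Set G) := fun z =>
    ⟨(z.1 : G) * ((z.2 : K) : G), by
      rw [mem_centralizer_singleton_iff]
      obtain ⟨i, hi⟩ := z.1.2
      have hi' : x ^ i = (z.1 : G) := hi
      have h1 : ((z.2 : K) : G) * k = k * (z.2 : K) := congrArg Subtype.val (mem_centralizer_singleton_iff.1 z.2.2)
      have c1 : Commute (x ^ i) (k : G) := (show Commute x (k : G) from h.comm k.2).zpow_left i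
      have c2 : Commute (x ^ i) ((z.2 : K) : G) := (show Commute x ((z.2 : K) : G) from h.comm (z.2 : K).2).zpow_left i
      have c3 : Commute x ((z.2 : K) : G) := h.comm (z.2 : K).2
      have c4 : Commute (x ^ i) x := (Commute.refl x).zpow_left i
      have c5 : Commute ((z.2 : K) : G) (k : G) := h1
      rw [← hi']
      have c6 : Commute (x ^ i * ((z.2 : K) : G)) (x * (k : G)) :=
        (c4.mul_right c1).mul_left (c3.symm.mul_right c5)
      exact c6.eq⟩
  have hf : Function.Bijective f := by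
    constructor
    · rintro ⟨⟨a, ha⟩, b⟩ ⟨⟨a', ha'⟩, b'⟩ hab
      have h1 : a * ((b : K) : G) = a' * ((b' : K) : G) := congrArg Subtype.val hab
      have h2 : a'⁻¹ * a = ((b' : K) : G) * ((b : K) : G)⁻¹ := by
        calc a'⁻¹ * a = a'⁻¹ * (a * ((b : K) : G)) * ((b : K) : G)⁻¹ := by group
          _ = _ := by rw [h1]; group
      have h3 : a'⁻¹ * a ∈ K := by rw [h2]; exact mul_mem (b' : K).2 (inv_mem (b : K).2)
      obtain ⟨i, hi⟩ := (mem_powers_iff_mem_zpowers (x := x)).2 (mul_mem (inv_mem ha') ha)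
      have hi' : x ^ i = a'⁻¹ * a := hi
      have h4 := h.nmem i (by rw [hi']; exact h3)
      rw [hi'] at h4
      have h5 : a = a' := by
        rw [inv_mul_eq_one] at h4
        exact h4.symm
      have h6 : ((b : K) : G) = ((b' : K) : G) := by rw [h5] at h1; exact mul_left_cancel h1
      exact Prod.ext (Subtype.ext h5) (Subtype.ext (Subtype.ext h6))
    · rintro ⟨g, hg⟩
      have hg' := mem_centralizer_singleton_iff.1 hg
      have h1 : g * (x * (k : G)) * g⁻¹ = x * (k : G) := by rw [hg', mul_inv_cancel_right]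
      obtain ⟨h2, h3⟩ := h.conj_of hp hk hk h1
      obtain ⟨i, m, hm, rfl⟩ := h.dec g h2
      refine ⟨(⟨x ^ i, ⟨i, by simp⟩⟩, ⟨⟨m, hm⟩, ?_⟩), rfl⟩
      rw [mem_centralizer_singleton_iff]
      apply Subtype.ext
      show m * (k : G) = k * m
      have hc1 : Commute (x ^ i) (k : G) := (show Commute x (k : G) from h.comm k.2).pow_left i
      have h4 : x ^ i * m * (k : G) = k * (x ^ i * m) := by
        calc x ^ i * m * (k : G) = (x ^ i * m * (k : G) * (x ^ i * m)⁻¹) * (x ^ i * m) := by group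
          _ = _ := by rw [h3]
      have h5 : x ^ i * (m * (k : G)) = x ^ i * (k * m) := by
        rw [← mul_assoc, h4, ← mul_assoc, ← hc1.eq, mul_assoc]
      exact mul_left_cancel h5
  rw [← Nat.card_congr (Equiv.ofBijective f hf), Nat.card_prod, Nat.card_zpowers, hx]

/-! ### The multiplicity of `θ` -/

theorem part_pow (h : Loc p x K) [Finite G] {χ : G → ℂ} (hχ : IsClassFunction G χ) (θ : K → ℂ) {i : ℕ} (hi : i.Coprime p) :
    part θ χ (x ^ i) = part θ χ x := by
  have := Fintype.ofFinite K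
  obtain ⟨n, hn, hc⟩ := h.real i hi
  rw [part_eq, part_eq]
  congr 1
  refine Finset.sum_congr rfl fun k _ => ?_
  congr 1
  rw [← hn]
  have h1 : n * x * n⁻¹ * (k : G) = n * (x * k) * n⁻¹ := by
    calc n * x * n⁻¹ * (k : G) = n * x * n⁻¹ * (k * n) * n⁻¹ := by group
      _ = n * x * n⁻¹ * (n * k) * n⁻¹ := by rw [hc k k.2]
      _ = _ := by group
  rw [h1, hχ]

/-- the multiplication `⟨x⟩ × K → G` -/
def hom (h : Loc p x K) : zpowers x × K →* G :=
  MonoidHom.noncommCoprod (zpowers x).subtype K.subtype (fun a b => by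
    obtain ⟨i, hi⟩ := a.2
    have hi' : x ^ i = (a : G) := hi
    show Commute (a : G) (b : G)
    rw [← hi']
    exact (show Commute x (b : G) from h.comm b.2).zpow_left i)

theorem hom_apply (h : Loc p x K) (a : zpowers x) (b : K) : h.hom (a, b) = (a : G) * b := by
  simp [hom]

theorem isChar (h : Loc p x K) [Finite G] {χ : G → ℂ} (hχ : IsCharacter G χ) {θ : K → ℂ} (hθ : IsIrrCharacter K θ) :
    IsCharacter (zpowers x) (fun a : zpowers x => part θ χ (a : G)) := by
  have := Fintype.ofFinite K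
  have h1 := isCharacter_inner (isCharacter_comp h.hom hχ) hθ
  have h2 : (fun a : zpowers x => part θ χ (a : G)) =
      fun a : zpowers x => classInner (fun b => χ (h.hom (a, b))) θ := by
    funext a
    rw [part_eq, classInner_def]
    simp only [hom_apply]
  rw [h2]
  exact h1

theorem exists_int (h : Loc p x K) [Finite G] (hp : p.Prime) (χ : IrrCharacter G) (θ : IrrCharacter K) :
    ∃ (w : ℤ) (m : ℕ), part (θ : K → ℂ) (χ : G → ℂ) x = w ∧ part (θ : K → ℂ) (χ : G → ℂ) 1 = m ∧ (p : ℤ) ∣ m - w := by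
  have hc := h.isChar (isIrr_isCharacter χ.2) θ.2
  set y : zpowers x := ⟨x, mem_zpowers x⟩ with hy
  have hcard : Nat.card (zpowers x) = p := by rw [Nat.card_zpowers, h.ord]
  have h1 : ∃ q : ℚ, (fun a : zpowers x => part (θ : K → ℂ) (χ : G → ℂ) (a : G)) y = q := by
    rw [GaloisBasic.exists_rat_iff hc]
    intro m hm
    rw [hcard] at hm
    exact h.part_pow (isIrr_isClassFunction χ.2) _ hm
  obtain ⟨w, hw⟩ := GaloisBasic.exists_int_of_rat hc y h1
  obtain ⟨m, hm⟩ := isCharacter_apply_one hc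
  refine ⟨w, m, hw, hm, ?_⟩
  refine Cfsg.Agent.H935.Fi23.dvd_sub_of_int hc hm hp (x := y) ?_ hw
  rw [← h.ord, hy, Subgroup.orderOf_mk]

/-! ### The columns -/

open scoped Classical in
theorem col_sum [Finite G] [Fintype (IrrCharacter G)] [Fintype K] (θ : K → ℂ) (x g : G) :
    ∑ χ : IrrCharacter G, part θ (χ : G → ℂ) x * conj ((χ : G → ℂ) g) = (Nat.card K : ℂ)⁻¹ *
      ∑ k : K, conj (θ k) * (if IsConj (x * (k : G)) g then (Nat.card (centralizer ({g} : Set G)) : ℂ) else 0) := by
  have := Fintype.ofFinite G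
  have h1 : ∀ χ : IrrCharacter G, part θ (χ : G → ℂ) x * conj ((χ : G → ℂ) g) =
      (Nat.card K : ℂ)⁻¹ * ∑ k : K, conj (θ k) * ((χ : G → ℂ) (x * k) * conj ((χ : G → ℂ) g)) := by
    intro χ
    rw [part_eq, mul_assoc, Finset.sum_mul]
    congr 1
    refine Finset.sum_congr rfl fun k _ => ?_
    ring
  rw [Finset.sum_congr rfl fun χ _ => h1 χ, ← Finset.mul_sum, Finset.sum_comm]
  congr 1
  refine Finset.sum_congr rfl fun k _ => ?_
  rw [← Finset.mul_sum, S0145.sum_irr_mul_conj]
  congr 1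
  split_ifs <;> rfl

theorem orderOf_mul (h : Loc p x K) [Finite G] (hp : p.Prime) {k : K} (hk : ¬ p ∣ orderOf k) :
    p ∣ orderOf (x * (k : G)) := by
  have h1 : (orderOf x).Coprime (orderOf (k : G)) := by
    rw [h.ord, Subgroup.orderOf_coe]
    exact (Nat.Prime.coprime_iff_not_dvd hp).2 hk
  rw [(show Commute x (k : G) from h.comm k.2).orderOf_mul_eq_mul_orderOf_of_coprime h1, h.ord]
  exact Dvd.intro _ rfl

theorem col_reg (h : Loc p x K) [Finite G] [Fintype (IrrCharacter G)] (hp : p.Prime) (θ : IrrCharacter K)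
    (h0 : (charDegree (θ : K → ℂ)).factorization p = (Nat.card K).factorization p) {g : G} (hg : ¬ p ∣ orderOf g) :
    ∑ χ : IrrCharacter G, part (θ : K → ℂ) (χ : G → ℂ) x * conj ((χ : G → ℂ) g) = 0 := by
  classical
  have := Fintype.ofFinite K
  rw [col_sum]
  rw [Finset.sum_eq_zero, mul_zero]
  intro k _
  by_cases hk : p ∣ orderOf k
  · rw [dz_vanish hp θ h0 hk, map_zero, zero_mul]
  · rw [if_neg, mul_zero]
    intro hc
    apply hg
    obtain ⟨c, hc⟩ := isConj_iff.1 hc
    have h1 : orderOf g = orderOf (x * (k : G)) := by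
      rw [← hc]
      have : c * (x * (k : G)) * c⁻¹ = MulAut.conj c (x * (k : G)) := rfl
      rw [this, MulEquiv.orderOf_eq]
    rw [h1]
    exact h.orderOf_mul hp hk

theorem col_sing (h : Loc p x K) [Finite G] [Fintype (IrrCharacter G)] (hp : p.Prime) (θ : IrrCharacter K)
    (h0 : (charDegree (θ : K → ℂ)).factorization p = (Nat.card K).factorization p) {l : K} (hl : ¬ p ∣ orderOf l) :
    ∑ χ : IrrCharacter G, part (θ : K → ℂ) (χ : G → ℂ) x * conj ((χ : G → ℂ) (x * (l : G))) =
      p * conj ((θ : K → ℂ) l) := by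
  classical
  have := Fintype.ofFinite K
  rw [col_sum]
  have h1 : ∀ k : K, conj ((θ : K → ℂ) k) * (if IsConj (x * (k : G)) (x * (l : G)) then
      (Nat.card (centralizer ({x * (l : G)} : Set G)) : ℂ) else 0) =
      if IsConj l k then conj ((θ : K → ℂ) l) * ((p : ℂ) * Nat.card (centralizer ({l} : Set K))) else 0 := by
    intro k
    by_cases hk : p ∣ orderOf k
    · rw [dz_vanish hp θ h0 hk, map_zero, zero_mul, if_neg]
      intro hc
      obtain ⟨c, hc⟩ := isConj_iff.1 hc
      apply hl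
      have h2 : orderOf k = orderOf l := by
        rw [← hc]
        have : c * l * c⁻¹ = MulAut.conj c l := rfl
        rw [this, MulEquiv.orderOf_eq]
      rwa [← h2]
    · rw [h.isConj_iff_of hp hk hl, h.card_cent hp hl]
      by_cases hc : IsConj k l
      · rw [if_pos hc, if_pos hc.symm]
        obtain ⟨c, rfl⟩ := isConj_iff.1 hc
        rw [isIrr_isClassFunction θ.2 k c]
        push_cast
        ring
      · rw [if_neg hc, if_neg (fun h => hc h.symm), mul_zero]
  have h5 : (Finset.univ.filter fun a => IsConj l a).card = (centralizer ({l} : Set K)).index := by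
    convert ClassMul.card_filter_isConj l
  rw [Finset.sum_congr rfl fun k _ => h1 k, ← Finset.sum_filter, Finset.sum_const, h5, nsmul_eq_mul]
  have h2 := ClassMul.card_centralizer_mul_index l
  have h3 : (Nat.card K : ℂ) ≠ 0 := by exact_mod_cast Nat.card_pos.ne'
  field_simp
  rw [← h2]
  ring

theorem col_norm (h : Loc p x K) [Finite G] [Fintype (IrrCharacter G)] (hp : p.Prime) (θ : IrrCharacter K)
    (h0 : (charDegree (θ : K → ℂ)).factorization p = (Nat.card K).factorization p) :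
    ∑ χ : IrrCharacter G, part (θ : K → ℂ) (χ : G → ℂ) x * conj (part (θ : K → ℂ) (χ : G → ℂ) x) = p := by
  classical
  have := Fintype.ofFinite K
  have h1 : ∀ χ : IrrCharacter G, part (θ : K → ℂ) (χ : G → ℂ) x * conj (part (θ : K → ℂ) (χ : G → ℂ) x) =
      (Nat.card K : ℂ)⁻¹ * ∑ l : K, (θ : K → ℂ) l *
        (part (θ : K → ℂ) (χ : G → ℂ) x * conj ((χ : G → ℂ) (x * (l : G)))) := by
    intro χ
    have h2 : conj (part (θ : K → ℂ) (χ : G → ℂ) x) = (Nat.card K : ℂ)⁻¹ * ∑ l : K, (θ : K → ℂ) l *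
        conj ((χ : G → ℂ) (x * (l : G))) := by
      rw [part_eq, map_mul, map_inv₀, map_natCast, map_sum]
      congr 1
      refine Finset.sum_congr rfl fun l _ => ?_
      rw [map_mul, Complex.conj_conj, mul_comm]
    rw [h2, ← mul_assoc, mul_comm (part _ _ _), mul_assoc, Finset.mul_sum]
    congr 1
    refine Finset.sum_congr rfl fun l _ => ?_
    ring
  rw [Finset.sum_congr rfl fun χ _ => h1 χ, ← Finset.mul_sum, Finset.sum_comm]
  have h2 : ∀ l : K, ∑ χ : IrrCharacter G, (θ : K → ℂ) l *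
        (part (θ : K → ℂ) (χ : G → ℂ) x * conj ((χ : G → ℂ) (x * (l : G)))) =
      p * ((θ : K → ℂ) l * conj ((θ : K → ℂ) l)) := by
    intro l
    rw [← Finset.mul_sum]
    by_cases hl : p ∣ orderOf l
    · rw [dz_vanish hp θ h0 hl]
      ring
    · rw [h.col_sing hp θ h0 hl]
      ring
  rw [Finset.sum_congr rfl fun l _ => h2 l, ← Finset.mul_sum]
  have h3 := classInner_irr_self θ.2
  rw [classInner_def] at h3
  have h4 : (Nat.card K : ℂ)⁻¹ * (p * ∑ l : K, (θ : K → ℂ) l * conj ((θ : K → ℂ) l)) =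
      p * ((Nat.card K : ℂ)⁻¹ * ∑ l : K, (θ : K → ℂ) l * conj ((θ : K → ℂ) l)) := by ring
  rw [h4, h3, mul_one]

/-! ### The local eigenvector relation -/

open scoped Classical in
/-- the sum over the conjugates of `g` outside `C(x)` -/
theorem sum_out (h : Loc p x K) [Finite G] [Fintype G] (hp : p.Prime) (χ : IrrCharacter G) (k : K) (g : G) :
    ∃ z : ℂ, IsIntegral ℤ z ∧ ∑ u with IsConj g u ∧ u ∉ centralizer ({x} : Set G), (χ : G → ℂ) (u * (x * k)) = p * z := by
  have := isIrr_isClassFunction χ.2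
  let X := {u : G // IsConj g u ∧ u ∉ centralizer ({x} : Set G)}
  have hconj : ∀ (a : zpowers x) (u : G), (IsConj g u ∧ u ∉ centralizer ({x} : Set G)) →
      (IsConj g ((a : G) * u * (a : G)⁻¹) ∧ (a : G) * u * (a : G)⁻¹ ∉ centralizer ({x} : Set G)) := by
    rintro ⟨a, i, hi⟩ u ⟨h1, h2⟩
    have hi' : x ^ i = a := hi
    refine ⟨h1.trans (isConj_iff.2 ⟨a, rfl⟩), fun h3 => h2 ?_⟩
    have ha : a ∈ centralizer ({x} : Set G) := by
      rw [← hi', mem_centralizer_singleton_iff]
      exact ((Commute.refl x).zpow_left i).eq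
    have h4 : u = a⁻¹ * (a * u * a⁻¹) * a := by group
    rw [h4]
    exact mul_mem (mul_mem (inv_mem ha) h3) ha
  let act : MulAction (zpowers x) X :=
    { smul := fun a u => ⟨(a : G) * u * (a : G)⁻¹, hconj a u u.2⟩
      one_smul := fun u => Subtype.ext (by
        show ((1 : zpowers x) : G) * u * ((1 : zpowers x) : G)⁻¹ = u
        simp)
      mul_smul := fun a b u => Subtype.ext (by
        show ((a * b : zpowers x) : G) * u * ((a * b : zpowers x) : G)⁻¹ = (a : G) * ((b : G) * u * (b : G)⁻¹) * (a : G)⁻¹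
        simp only [Subgroup.coe_mul]
        group) }
  have hsm : ∀ (a : zpowers x) (u : X), ((a • u : X) : G) = (a : G) * u * (a : G)⁻¹ := fun _ _ => rfl
  obtain ⟨r, hr, h1⟩ := DefectZero.sum_eq_of_dvd_orbit (H := zpowers x) (X := X) (integralClosure ℤ ℂ).toSubring p
    (fun u => (χ : G → ℂ) ((u : G) * (x * k))) (by
      rintro ⟨a, ha⟩ u
      obtain ⟨i, hi⟩ := ha
      have hi' : x ^ i = a := hi
      show (χ : G → ℂ) ((((⟨a, ⟨i, hi⟩⟩ : zpowers x) • u : X) : G) * (x * k)) = _
      rw [hsm]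
      have c1 : Commute a (x * (k : G)) := by
        rw [← hi']
        exact ((Commute.refl x).mul_right (show Commute x (k : G) from h.comm k.2)).zpow_left i
      have h2 : a * (u : G) * a⁻¹ * (x * k) = a * ((u : G) * (x * k)) * a⁻¹ := by
        calc a * (u : G) * a⁻¹ * (x * k) = a * (u : G) * a⁻¹ * ((x * k) * a) * a⁻¹ := by group
          _ = a * (u : G) * a⁻¹ * (a * (x * k)) * a⁻¹ := by rw [c1.eq]
          _ = _ := by group
      show (χ : G → ℂ) (a * (u : G) * a⁻¹ * (x * k)) = _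
      rw [h2, this]) (by
      intro u
      exact GaloisBasic.isIntegral_apply (isIrr_isCharacter χ.2) _) (by
      intro u _
      have h2 := MulAction.index_stabilizer (zpowers x) u
      have h3 : Nat.card (MulAction.orbit (zpowers x) u) ∣ p := by
        rw [Nat.card_coe_set_eq, ← h2]
        have h4 := Subgroup.index_dvd_card (MulAction.stabilizer (zpowers x) u)
        rwa [Nat.card_zpowers, h.ord] at h4
      rcases (Nat.dvd_prime hp).1 h3 with h4 | h4
      · exfalso
        apply u.2.2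
        have h5 : (⟨x, mem_zpowers x⟩ : zpowers x) • u = u := by
          rw [Nat.card_coe_set_eq, Set.ncard_eq_one] at h4
          obtain ⟨v, hv⟩ := h4
          have h6 : u ∈ MulAction.orbit (zpowers x) u := MulAction.mem_orbit_self u
          have h7 : (⟨x, mem_zpowers x⟩ : zpowers x) • u ∈ MulAction.orbit (zpowers x) u := MulAction.mem_orbit _ _
          rw [hv, Set.mem_singleton_iff] at h6 h7
          rw [h7, ← h6]
        have h6 := congrArg (fun v : X => (v : G)) h5
        simp only [hsm] at h6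
        rw [mem_centralizer_singleton_iff]
        calc (u : G) * x = x * u * x⁻¹ * x := by rw [h6]
          _ = x * u := by group
      · rw [h4])
  refine ⟨r, hr, ?_⟩
  rw [← h1, ← Finset.sum_subtype_eq_sum_filter, Finset.subtype_univ]

open scoped Classical in
/-- **the local eigenvector relation** -/
theorem eig (h : Loc p x K) [Finite G] [Fintype K] (hp : p.Prime) (χ : IrrCharacter G) (k : K) {g : G}
    (hg : ¬ p ∣ orderOf g) : ∃ z : ℂ, IsIntegral ℤ z ∧ om (χ : G → ℂ) g * (χ : G → ℂ) (x * k) =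
      ∑ s ∈ cls K g, (χ : G → ℂ) (x * (k * s : K)) + p * z := by
  have := Fintype.ofFinite G
  obtain ⟨z, hz, h1⟩ := h.sum_out hp χ k g
  refine ⟨z, hz, ?_⟩
  have h2 := ClassMul.sum_class_char_mul χ.2 g (x * (k : G))
  have h3 : om (χ : G → ℂ) g * (χ : G → ℂ) (x * k) =
      ((centralizer ({g} : Set G)).index : ℂ) * (χ : G → ℂ) g * (χ : G → ℂ) (x * k) / (χ : G → ℂ) 1 := by
    unfold om
    ring
  rw [h3, ← h2, ← h1]
  have h4 : ∑ s ∈ cls K g, (χ : G → ℂ) (x * (k * s : K)) =
      ∑ u with IsConj g u ∧ u ∈ centralizer ({x} : Set G), (χ : G → ℂ) (u * (x * k)) := by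
    refine Finset.sum_bij' (i := fun s _ => (s : G)) (j := fun u hu => ⟨u, h.mem_of_reg hp
      (Finset.mem_filter.1 hu).2.2 (by
        obtain ⟨c, hc⟩ := isConj_iff.1 (Finset.mem_filter.1 hu).2.1
        have h5 : orderOf u = orderOf g := by
          rw [← hc]
          have : c * g * c⁻¹ = MulAut.conj c g := rfl
          rw [this, MulEquiv.orderOf_eq]
        rwa [h5])⟩) ?_ ?_ ?_ ?_ ?_
    · intro s hs
      rw [Finset.mem_filter]
      exact ⟨Finset.mem_univ _, mem_cls.1 hs, h.le s.2⟩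
    · intro u hu
      rw [Finset.mem_filter] at hu
      exact mem_cls.2 hu.2.1
    · intro s _
      rfl
    · intro u _
      rfl
    · intro s _
      rw [Subgroup.coe_mul, ← mul_assoc, Blocks.Basic.irr_mul_comm χ.2]
  rw [h4, ← Finset.sum_filter_add_sum_filter_not (Finset.univ.filter fun u : G => IsConj g u)
    (fun u => u ∈ centralizer ({x} : Set G)), Finset.filter_filter, Finset.filter_filter]

theorem cls_inv [Fintype K] {g : G} : ∀ s ∈ cls K g, ∀ a : K, a * s * a⁻¹ ∈ cls K g := by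
  intro s hs a
  rw [mem_cls] at hs ⊢
  exact hs.trans (isConj_iff.2 ⟨a, rfl⟩)

/-- **the congruence of the central characters** -/
theorem omega (h : Loc p x K) [Finite G] [Fintype K] (hp : p.Prime) (χ : IrrCharacter G) (θ : IrrCharacter K)
    (h0 : (charDegree (θ : K → ℂ)).factorization p = (Nat.card K).factorization p) {g : G} (hg : ¬ p ∣ orderOf g)
    {w : ℤ} (hw : part (θ : K → ℂ) (χ : G → ℂ) x = w) (hwp : ¬ (p : ℤ) ∣ w) :
    ∃ (m : ℕ) (z : ℂ), ¬ p ∣ m ∧ IsIntegral ℤ z ∧
      (m : ℂ) * (om (χ : G → ℂ) g - (∑ s ∈ cls K g, (θ : K → ℂ) s) / (θ : K → ℂ) 1) = p * z := by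
  classical
  have : Finite (IrrCharacter K) := finite_irr
  have := Fintype.ofFinite (IrrCharacter K)
  have hcK : (Nat.card K : ℂ) ≠ 0 := by exact_mod_cast Nat.card_pos.ne'
  have hpc : (p : ℂ) ≠ 0 := by exact_mod_cast hp.ne_zero
  choose z hz he using fun k : K => h.eig hp χ k hg
  set T : IrrCharacter K → ℂ := fun φ => (∑ s ∈ cls K g, (φ : K → ℂ) s) / (φ : K → ℂ) 1 with hT
  have hexp : ∀ k : K, (χ : G → ℂ) (x * k) =
      ∑ φ : IrrCharacter K, part (φ : K → ℂ) (χ : G → ℂ) x * (φ : K → ℂ) k := fun k =>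
    sum_part (isIrr_isClassFunction χ.2) (fun y hy => h.comm hy) k
  have hz' : ∀ k : K, (p : ℂ) * z k = ∑ φ : IrrCharacter K,
      (part (φ : K → ℂ) (χ : G → ℂ) x * (om (χ : G → ℂ) g - T φ)) * (φ : K → ℂ) k := by
    intro k
    have h1 := he k
    have h2 : ∑ s ∈ cls K g, (χ : G → ℂ) (x * (k * s : K)) =
        ∑ φ : IrrCharacter K, part (φ : K → ℂ) (χ : G → ℂ) x * (T φ * (φ : K → ℂ) k) := by
      rw [Finset.sum_congr rfl fun s _ => hexp (k * s), Finset.sum_comm]
      refine Finset.sum_congr rfl fun φ _ => ?_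
      rw [← Finset.mul_sum, sum_invariant _ cls_inv]
    rw [h2, hexp k, Finset.mul_sum] at h1
    rw [← sub_eq_iff_eq_add'.2 h1, ← Finset.sum_sub_distrib]
    refine Finset.sum_congr rfl fun φ _ => ?_
    ring
  have hcf : IsClassFunction K z := by
    intro a b
    refine mul_left_cancel₀ hpc ?_
    rw [hz', hz']
    refine Finset.sum_congr rfl fun φ _ => ?_
    rw [isIrr_isClassFunction φ.2]
  have hI := isIntegral_sum hcf hz θ
  have hsum : (p : ℂ) * ∑ k, conj ((θ : K → ℂ) k) * z k = Nat.card K * (w * (om (χ : G → ℂ) g - T θ)) := by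
    rw [Finset.mul_sum]
    have h1 : ∀ k : K, (p : ℂ) * (conj ((θ : K → ℂ) k) * z k) = ∑ φ : IrrCharacter K,
        (part (φ : K → ℂ) (χ : G → ℂ) x * (om (χ : G → ℂ) g - T φ)) * ((φ : K → ℂ) k * conj ((θ : K → ℂ) k)) := by
      intro k
      rw [mul_left_comm, hz', Finset.mul_sum]
      refine Finset.sum_congr rfl fun φ _ => ?_
      ring
    rw [Finset.sum_congr rfl fun k _ => h1 k, Finset.sum_comm, Finset.sum_eq_single θ]
    · rw [← Finset.mul_sum]
      have h2 := classInner_irr_self θ.2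
      rw [classInner_def, inv_mul_eq_iff_eq_mul₀ hcK, mul_one] at h2
      rw [h2, hw]
      ring
    · intro φ _ hφ
      rw [← Finset.mul_sum]
      have h2 := classInner_irr_ne φ.2 θ.2 (fun h => hφ (Subtype.ext h))
      rw [classInner_def, mul_eq_zero] at h2
      rw [h2.resolve_left (inv_ne_zero hcK), mul_zero]
    · intro h
      exact absurd (Finset.mem_univ _) h
  obtain ⟨n, hn0, hn⟩ := isIrr_apply_one θ.2
  have hdeg : charDegree (θ : K → ℂ) = n := Blocks.Basic.charDegree_of_eq hn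
  obtain ⟨m, hm⟩ := Blocks.Knorr.charDegree_dvd θ.2
  rw [hdeg] at hm h0
  have hm0 : m ≠ 0 := by
    rintro rfl
    exact Nat.card_pos.ne' (by rw [hm, mul_zero])
  have hpm : ¬ p ∣ m := by
    intro hd
    have h1 : (Nat.card K).factorization p = n.factorization p + m.factorization p := by
      rw [hm, Nat.factorization_mul hn0.ne' hm0, Finsupp.add_apply]
    have h2 : 0 < m.factorization p := hp.factorization_pos_of_dvd hm0 hd
    omega
  have hnc : (n : ℂ) ≠ 0 := by exact_mod_cast hn0.ne'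
  have hfin : ((m : ℂ) * w) * (om (χ : G → ℂ) g - T θ) =
      p * ((∑ k, conj ((θ : K → ℂ) k) * z k) / (θ : K → ℂ) 1) := by
    rw [hn, mul_div_assoc', hsum, hm]
    push_cast
    field_simp
  rcases Int.natAbs_eq w with hw' | hw'
  · refine ⟨m * w.natAbs, _, ?_, hI, ?_⟩
    · rw [hp.dvd_mul]
      rintro (h1 | h1)
      · exact hpm h1
      · exact hwp (Int.natCast_dvd.2 h1)
    · have hwc : ((w.natAbs : ℕ) : ℂ) = w := by rw [← Int.cast_natCast (R := ℂ), ← hw']
      rw [← hfin, Nat.cast_mul, hwc]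
  · refine ⟨m * w.natAbs, _, ?_, hI.neg, ?_⟩
    · rw [hp.dvd_mul]
      rintro (h1 | h1)
      · exact hpm h1
      · exact hwp (Int.natCast_dvd.2 h1)
    · have hwc : ((w.natAbs : ℕ) : ℂ) = -w := by
        rw [← Int.cast_natCast (R := ℂ), ← Int.cast_neg]
        congr 1
        omega
      rw [mul_neg, ← hfin, Nat.cast_mul, hwc]
      ring

/-- **the column** -/
theorem col (h : Loc p x K) [Finite G] [Fintype K] [Fintype (IrrCharacter G)] (hp : p.Prime) (θ : IrrCharacter K)
    (h0 : (charDegree (θ : K → ℂ)).factorization p = (Nat.card K).factorization p) :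
    ∃ w : IrrCharacter G → ℤ, (∀ χ : IrrCharacter G, part (θ : K → ℂ) (χ : G → ℂ) x = w χ) ∧
      (∑ χ, (w χ) ^ 2 = (p : ℤ)) ∧
      (∀ g : G, ¬ p ∣ orderOf g → ∑ χ : IrrCharacter G, (w χ : ℂ) * (χ : G → ℂ) g = 0) ∧
      (∀ χ : IrrCharacter G, ¬ (p : ℤ) ∣ w χ → ∀ g : G, ¬ p ∣ orderOf g → ∃ (m : ℕ) (z : ℂ), ¬ p ∣ m ∧ IsIntegral ℤ z ∧
        (m : ℂ) * (om (χ : G → ℂ) g - (∑ s ∈ cls K g, (θ : K → ℂ) s) / (θ : K → ℂ) 1) = p * z) := by
  choose w m hw _ _ using fun χ : IrrCharacter G => h.exists_int hp χ θ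
  refine ⟨w, hw, ?_, ?_, fun χ hχ g hg => h.omega hp χ θ h0 hg (hw χ) hχ⟩
  · have h1 := h.col_norm hp θ h0
    have h2 : ((∑ χ, (w χ) ^ 2 : ℤ) : ℂ) = ((p : ℤ) : ℂ) := by
      push_cast
      rw [← h1]
      refine Finset.sum_congr rfl fun χ _ => ?_
      rw [hw, ← Complex.ofReal_intCast, Complex.conj_ofReal]
      ring
    exact_mod_cast h2
  · intro g hg
    have h1 := congrArg (starRingEnd ℂ) (h.col_reg hp θ h0 hg)
    rw [map_zero, map_sum] at h1
    rw [← h1]
    refine Finset.sum_congr rfl fun χ _ => ?_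
    rw [hw, map_mul, Complex.conj_conj, ← Complex.ofReal_intCast, Complex.conj_ofReal]

end Loc

end Cfsg.Agent.H343.LD
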