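import Cfsg.Agent.H343.LD.Col
import Cfsg.Agent.H174.Ore.Fi23Rk
import Cfsg.Agent.H856.F23.Deg

/-!
# S4910, the row Fi23: the end of `killB` (helper536 for helper66)

* `abs_le_one` : the multiplicity of a character of 5-defect zero in `χ(x ·)` is `0` or `±1` when `17 ∤ χ(1)`;
* `endB` : the degree `5987520` dies at the prime 5.
-/

set_option autoImplicit false

namespace Cfsg.Agent.H343.LD.EndB

open Cfsg Subgroup Cfsg.Agent.Characters Cfsg.Agent.Characters.Core Cfsg.Agent.SmallSimple.ThetaSetup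
open Cfsg.Agent.H174.Ore.Fi23Rk Cfsg.Agent.H343.LD
open Cfsg.Spor (Fi23)
open Cfsg.Agent.Lib.PermNet Cfsg.Agent.Fischer.Fi23Hom Cfsg.Agent.LThreeFi23
open scoped ComplexConjugate

/-- a column of norm 5 orthogonal to the column of 17 -/
theorem num {ι : Type*} [Fintype ι] {w c : ι → ℤ} (hw : ∑ i, w i ^ 2 = 5) (hc : ∀ i, c i = 0 ∨ c i = 1 ∨ c i = -1)
    (ho : ∑ i, w i * c i = 0) {j : ι} (hj : c j ≠ 0) : |w j| ≤ 1 := by
  classical
  by_contra hcon
  push Not at hcon
  rw [← Finset.add_sum_erase _ _ (Finset.mem_univ j)] at hw ho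
  have h1 : ∀ i ∈ Finset.univ.erase j, |w i * c i| ≤ w i ^ 2 := by
    intro i _
    rcases hc i with h | h | h
    · rw [h, mul_zero, abs_zero]; positivity
    · rw [h, mul_one, ← sq_abs]
      have := abs_nonneg (w i)
      rcases Int.lt_or_le 0 |w i| with h2 | h2
      · nlinarith
      · have : |w i| = 0 := by omega
        rw [this]; norm_num
    · rw [h, mul_neg_one, abs_neg, ← sq_abs]
      have := abs_nonneg (w i)
      rcases Int.lt_or_le 0 |w i| with h2 | h2
      · nlinarith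
      · have : |w i| = 0 := by omega
        rw [this]; norm_num
  have h2 := (Finset.abs_sum_le_sum_abs (fun i => w i * c i) (Finset.univ.erase j)).trans (Finset.sum_le_sum h1)
  have h3 : |∑ i ∈ Finset.univ.erase j, w i * c i| = |w j| := by
    have h4 : ∑ i ∈ Finset.univ.erase j, w i * c i = - (w j * c j) := by linarith
    rw [h4, abs_neg, abs_mul]
    rcases hc j with h | h | h
    · exact absurd h hj
    · rw [h]; simp
    · rw [h]; simp
  rw [h3] at h2
  have h5 : |w j| ^ 2 = w j ^ 2 := sq_abs _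
  nlinarith

theorem reg17 : ¬ 5 ∣ orderOf (elw y17) := by
  have h := H839.Fi23.card_y17
  rw [Nat.card_zpowers] at h
  rw [h]; norm_num

/-- the multiplicity of a character of 5-defect zero in `χ(x ·)` is at most 1 in absolute value -/
theorem abs_le_one {x : Fi23} {K : Subgroup Fi23} (h : Loc 5 x K) (θ : IrrCharacter K)
    (h0 : (charDegree (θ : K → ℂ)).factorization 5 = (Nat.card K).factorization 5) {χ : IrrCharacter Fi23} {n : ℤ}
    (hn : (χ : Fi23 → ℂ) 1 = n) (h17 : ¬ (17 : ℤ) ∣ n) {A : ℤ} (hA : part (θ : K → ℂ) (χ : Fi23 → ℂ) x = A) :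
    |A| ≤ 1 := by
  classical
  have := H713.Spor.Fi23.finite_fi23
  have := Fintype.ofFinite K
  have : Finite (IrrCharacter Fi23) := finite_irr
  have := Fintype.ofFinite (IrrCharacter Fi23)
  obtain ⟨w, hw, hs, ho, -⟩ := h.col (by norm_num) θ h0
  choose c hc1 hc2 hc3 using Cfsg.Agent.H856.F23.vals17
  have h1 := ho (elw y17) reg17
  have h2 : ∑ ψ, w ψ * c ψ = 0 := by
    have h3 : ((∑ ψ, w ψ * c ψ : ℤ) : ℂ) = 0 := by
      rw [← h1]
      push_cast
      refine Finset.sum_congr rfl fun ψ _ => ?_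
      rw [hc2]
    exact_mod_cast h3
  have h4 : w χ = A := by
    have := hw χ
    rw [hA] at this
    exact_mod_cast this.symm
  rw [← h4]
  refine num hs hc1 h2 ?_
  intro h5
  have h6 := hc3 χ n hn
  rw [h5, sub_zero] at h6
  exact h17 h6

/-- **The degree 5987520 dies at 5.** -/
theorem endB {x : Fi23} {K : Subgroup Fi23} [Fintype K] (h : Loc 5 x K) (θ15 θ35 : IrrCharacter K)
    (d15 : charDegree (θ15 : K → ℂ) = 15) (d35 : charDegree (θ35 : K → ℂ) = 35)
    (hK : (Nat.card K).factorization 5 = 1) {χ : IrrCharacter Fi23} {b c i : ℤ}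
    (hV : Vals χ 5987520 (-221760) b c) (hc : c = -24759 + 2457 * i) (hb : b = 271040 - 19712 * i) {A B : ℤ}
    (hA : part (θ15 : K → ℂ) (χ : Fi23 → ℂ) x = A) (hB : part (θ35 : K → ℂ) (χ : Fi23 → ℂ) x = B)
    (hA5 : (5 : ℤ) ∣ A - (b - c)) (hB5 : (5 : ℤ) ∣ B - (c - 2 * b)) {g : Fi23} (hg5 : ¬ 5 ∣ orderOf g)
    (hgi : (centralizer ({g} : Set Fi23)).index = 55582605) (hgv : (χ : Fi23 → ℂ) g = b)
    (hcls : ∑ s ∈ cls K g, (θ15 : K → ℂ) s = -105) : False := by
  classical
  have := H713.Spor.Fi23.finite_fi23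
  have : Finite (IrrCharacter Fi23) := finite_irr
  have := Fintype.ofFinite (IrrCharacter Fi23)
  have f15 : (charDegree (θ15 : K → ℂ)).factorization 5 = (Nat.card K).factorization 5 := by
    rw [hK, d15, show 15 = 5 ^ 1 * 3 by norm_num, Nat.factorization_mul (by norm_num) (by norm_num)]
    simp [Nat.Prime.factorization (show Nat.Prime 5 by norm_num),
      Nat.Prime.factorization (show Nat.Prime 3 by norm_num)]
  have f35 : (charDegree (θ35 : K → ℂ)).factorization 5 = (Nat.card K).factorization 5 := by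
    rw [hK, d35, show 35 = 5 ^ 1 * 7 by norm_num, Nat.factorization_mul (by norm_num) (by norm_num)]
    simp [Nat.Prime.factorization (show Nat.Prime 5 by norm_num),
      Nat.Prime.factorization (show Nat.Prime 7 by norm_num)]
  have a1 := abs_le_one h θ15 f15 (n := 5987520) (by rw [hV.one]) (by norm_num) hA
  have b1 := abs_le_one h θ35 f35 (n := 5987520) (by rw [hV.one]) (by norm_num) hB
  rw [abs_le] at a1 b1
  have e1 : (A - (i - 1)) % 5 = 0 := by omega
  have e2 : (B - (i + 1)) % 5 = 0 := by omega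
  clear hA5 hB5
  have hi : (5 : ℤ) ∣ i := by
    have e3 : A = -1 ∨ A = 0 ∨ A = 1 := by omega
    have e4 : B = -1 ∨ B = 0 ∨ B = 1 := by omega
    rcases e3 with rfl | rfl | rfl <;> rcases e4 with rfl | rfl | rfl <;> omega
  have hA0 : ¬ (5 : ℤ) ∣ A := by omega
  have hw : ∃ (m : ℕ) (z : ℂ), ¬ 5 ∣ m ∧ IsIntegral ℤ z ∧
        (m : ℂ) * (om (χ : Fi23 → ℂ) g - (∑ s ∈ cls K g, (θ15 : K → ℂ) s) / (θ15 : K → ℂ) 1) = (5 : ℕ) * z :=
    h.omega (by norm_num) χ θ15 f15 hg5 hA (by exact_mod_cast hA0)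
  obtain ⟨m, z, hm, hz, he⟩ := hw
  have h15 : (θ15 : K → ℂ) 1 = 15 := by
    rw [Blocks.Basic.irr_one_eq_charDegree θ15.2, d15]
    norm_num
  have hom : om (χ : Fi23 → ℂ) g = ((2516085 - 182988 * i : ℤ) : ℂ) := by
    unfold om
    rw [hgi, hgv, hV.one, hb]
    push_cast
    ring
  rw [hom, hcls, h15] at he
  have h2 := H856.F23.dvd_of_integral (q := 5) (by norm_num) (a := m * (2516085 - 182988 * i + 7)) (b := 0)
    ⟨z, hz, by
      rw [Int.cast_zero, zero_add, ← he]
      push_cast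
      ring⟩
  rw [sub_zero] at h2
  have h5 : Prime (5 : ℤ) := Int.prime_iff_natAbs_prime.2 (by norm_num)
  rcases h5.dvd_or_dvd h2 with h3 | h3
  · exact hm (by exact_mod_cast h3)
  · omega

end Cfsg.Agent.H343.LD.EndB
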