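import Cfsg.Agent.H593.LD.Orb23
import Cfsg.Agent.H856.F23.Rel
import Cfsg.Agent.H174.Ore.Fi23Rk
import Cfsg.Agent.H343.LD.Col

/-!
# S4910, the row `Fi₂₃`: no character of degree `52540488` with value `648648` at 2A (helper343)

The relation `∑ χ(e · g z) = 31671 χ(z) χ(g z) / χ(1)` over the 31671 transpositions `e`, modulo 9.
-/

set_option autoImplicit false
set_option maxRecDepth 100000
set_option exponentiation.threshold 40000

namespace Cfsg.Agent.H343.LD.KA

open Cfsg Subgroup Cfsg.Agent.Lib.PermNet Cfsg.Agent.Lib.PermNetFix Cfsg.Agent.Lib.PermNetOrbit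
open Cfsg.Agent.LThreeFi23 Cfsg.Agent.Fischer.Fi23Hom Cfsg.Agent.H870.Fi23Fix Cfsg.Agent.H593.LD.Orb23
open Cfsg.Agent.Characters Cfsg.Agent.Characters.Core
open Cfsg.Spor (Fi23)

/-- the mask of the points commuting with `z` but not with `g` -/
noncomputable def oneM : ℕ := seq (fxm [.z]) fun x => seq (Nat.land x (fxm [.g])) fun y => Nat.xor x y

theorem testBit_oneM (p : ℕ) : oneM.testBit p = true ↔
    p < 31671 ∧ rho (el .z) p = p ∧ ¬ rho (el .g) p = p := by
  have hz := testBit_fxm [.z] p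
  have hg := testBit_fxm [.g] p
  rw [elw_cons, elw_nil, mul_one] at hz hg
  unfold oneM
  rw [seq_eq, seq_eq]
  show ((fxm [.z]) ^^^ ((fxm [.z]) &&& (fxm [.g]))).testBit p = true ↔ _
  rw [Nat.testBit_xor, Nat.testBit_and]
  by_cases h1 : (fxm [.z]).testBit p = true
  · rw [h1, Bool.true_and, Bool.true_xor, Bool.not_eq_true', ← Bool.not_eq_true, hg]
    have h2 := hz.1 h1
    tauto
  · have h2 : (fxm [.z]).testBit p = false := by rwa [← Bool.not_eq_true]
    rw [h2, Bool.false_and, Bool.xor_false]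
    constructor
    · intro h; exact absurd h (by decide)
    · rintro ⟨h3, h4, -⟩
      exact absurd (hz.2 ⟨h3, h4⟩) h1

theorem chk_card_one : Nat.beq (pc 15 oneM) 2816 = true := by decide +kernel

theorem chk_one : Nat.beq (sat ws 6 (Nat.pow 2 8002)) oneM = true := by decide +kernel

theorem orb_one {p : ℕ} (hp : oneM.testBit p = true) : ∃ k ∈ C, rho k 8002 = p := by
  have h1 : sat ws 6 (2 ^ 8002) = oneM := Nat.eq_of_beq_eq_true chk_one
  rw [← h1] at hp
  obtain ⟨g, ⟨k, hk, rfl⟩, hg⟩ := sat_point_spec ws_ok ws_mem 6 hp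
  exact ⟨k, hk, hg⟩

theorem card_one : {p : ℕ | p < 31671 ∧ rho (el .z) p = p ∧ ¬ rho (el .g) p = p}.ncard = 2816 := by
  have h0 : pc 15 oneM = 2816 := Nat.eq_of_beq_eq_true chk_card_one
  rw [pc_eq 15 _ (lt_pow fun p hp => ((testBit_oneM p).1 hp).1), ← Set.ncard_coe_finset] at h0
  rw [← h0]
  congr 1
  ext p
  rw [Finset.mem_coe, mem_bits, testBit_oneM]
  constructor
  · intro h
    exact ⟨lt_trans h.1 (by norm_num), h⟩
  · exact fun h => h.2

/-! ### Orders -/

theorem step (H D : Subgroup Fi23) (p m : ℕ) (hD : ∀ k, k ∈ D ↔ k ∈ H ∧ rho k p = p)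
    (hm : {q : ℕ | ∃ k ∈ H, rho k p = q}.ncard = m) : Nat.card H = Nat.card D * m := by
  let _ : MulAction H ℕ := MulAction.compHom ℕ (rho.comp H.subtype)
  have h2 := (MulAction.stabilizer H p).card_mul_index
  rw [MulAction.index_stabilizer] at h2
  have h3 : (MulAction.orbit H p) = {q : ℕ | ∃ k ∈ H, rho k p = q} := by
    ext q
    constructor
    · rintro ⟨k, rfl⟩
      exact ⟨k, k.2, rfl⟩
    · rintro ⟨k, hk, rfl⟩
      exact ⟨⟨k, hk⟩, rfl⟩
  rw [h3, hm] at h2
  rw [← h2]
  congr 1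
  exact Nat.card_congr ⟨fun k => ⟨(k : H), (hD _).2 ⟨(k : H).2, k.2⟩⟩,
    fun k => ⟨⟨k, ((hD _).1 k.2).1⟩, ((hD _).1 k.2).2⟩, fun k => rfl, fun k => rfl⟩

theorem card_C : 129123503308800 = Nat.card C * 3510 := by
  rw [← H856.F23.card_cent]
  refine step _ C 8005 3510 (fun k => ?_) ?_
  · rw [mem_C, mem_centralizer_singleton_iff]
    exact and_congr_right fun _ => (fix_pt_iff k .g).symm
  · classical
    have h1 : {q : ℕ | ∃ k ∈ centralizer ({el .z} : Set Fi23), rho k 8005 = q} =
        (((Finset.range 31671).filter fun q => Com 0 q).erase 0 : Finset ℕ) := by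
      have hc : Com 0 8005 := by
        rw [show (0 : ℕ) = pt .z from rfl, com_pt_iff]
        have : Nat.beq (ptw [.z] 8005) 8005 = true := by decide +kernel
        have h2 := Nat.eq_of_beq_eq_true this
        rw [ptw_eq, elw_cons, elw_nil, mul_one] at h2
        exact h2
      ext q
      simp only [Finset.coe_erase, Finset.coe_filter, Finset.mem_range, Set.mem_sdiff, Set.mem_ofPred_eq,
        Set.mem_singleton_iff]
      constructor
      · rintro ⟨k, hk, rfl⟩
        rw [mem_centralizer_singleton_iff] at hk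
        have h0 : rho k 0 = 0 := (fix_pt_iff k .z).2 hk
        refine ⟨⟨act_lt k (by norm_num), (com_fix k (by norm_num) h0).2 hc⟩, ?_⟩
        intro h3
        have := (rho k).injective (h3.trans h0.symm)
        exact absurd this (by decide)
      · rintro ⟨⟨hq, hq'⟩, hne⟩
        obtain ⟨k, h0, h1⟩ := H856.F23.com_trans (by norm_num) hq hc hq' (by decide) hne
        refine ⟨k, ?_, h1⟩
        rw [mem_centralizer_singleton_iff]
        exact (fix_pt_iff k .z).1 h0
    rw [h1, Set.ncard_coe_finset, Finset.card_erase_of_mem, H856.F23.card_com]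
    exact Finset.mem_filter.2 ⟨by simp, com_self (by norm_num)⟩

/-- the centralizer of `z`, `g`, `f` -/
def D : Subgroup Fi23 := C ⊓ centralizer {el .f}

theorem mem_D {k : Fi23} : k ∈ D ↔ (k * el .z = el .z * k ∧ k * el .g = el .g * k) ∧ k * el .f = el .f * k := by
  unfold D
  rw [Subgroup.mem_inf, mem_C, mem_centralizer_singleton_iff]

theorem card_D : Nat.card C = Nat.card D * 2816 := by
  refine step _ D 8002 2816 (fun k => ?_) ?_
  · rw [mem_D, mem_C]
    exact and_congr_right fun _ => (fix_pt_iff k .f).symm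
  · rw [← card_one]
    congr 1
    have hz : rho (el .z) 8002 = 8002 := by
      have : Nat.beq (ptw [.z] 8002) 8002 = true := by decide +kernel
      have h2 := Nat.eq_of_beq_eq_true this
      rwa [ptw_eq, elw_cons, elw_nil, mul_one] at h2
    have hg : ¬ rho (el .g) 8002 = 8002 := by
      intro h2
      have : Nat.beq (ptw [.g] 8002) 8002 = false := by decide +kernel
      rw [ptw_eq, elw_cons, elw_nil, mul_one, h2, Nat.beq_refl] at this
      exact Bool.noConfusion this
    ext q
    constructor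
    · rintro ⟨k, hk, rfl⟩
      obtain ⟨h1, h2⟩ := mem_C.1 hk
      refine ⟨act_lt k (by norm_num), ?_, fun h3 => hg ?_⟩
      · rw [← Equiv.Perm.mul_apply, ← map_mul, ← h1, map_mul, Equiv.Perm.mul_apply, hz]
      · rw [← Equiv.Perm.mul_apply, ← map_mul, ← h2, map_mul, Equiv.Perm.mul_apply] at h3
        exact (rho k).injective h3
    · intro hq
      exact orb_one ((testBit_oneM q).2 hq)

theorem fg_three : (el .f * el .g) ^ 3 = 1 := by
  have h := elw_eq_of_checkEq (l := [.f, .g, .f]) (l' := [.g, .f, .g]) (by decide +kernel)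
  simp only [elw_cons, elw_nil, mul_one] at h
  have hf := el_sq .f
  have hg := el_sq .g
  calc (el .f * el .g) ^ 3 = (el .f * (el .g * el .f)) * (el .g * (el .f * el .g)) := by
        simp only [pow_succ, pow_zero, one_mul, mul_assoc]
    _ = (el .g * (el .f * el .g)) * (el .g * (el .f * el .g)) := by rw [h]
    _ = el .g * el .f * (el .g * el .g) * el .f * el .g := by group
    _ = el .g * (el .f * el .f) * el .g := by rw [hg]; group
    _ = 1 := by rw [hf, mul_one, hg]

theorem fg_ne : el .f * el .g ≠ 1 := by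
  intro h
  have h1 : el .f = el .g := by
    rw [mul_eq_one_iff_eq_inv, el_inv] at h
    exact h
  rw [← T_pt, ← T_pt] at h1
  exact absurd (T_inj (pt_lt _) (pt_lt _) h1) (by decide)

theorem order_fg : orderOf (el .f * el .g) = 3 :=
  orderOf_eq_prime fg_three fg_ne

/-- the element `f g z` -/
def hh : Fi23 := el .f * (el .g * el .z)

theorem zg_comm : el .z * el .g = el .g * el .z := by
  have h := elw_eq_of_checkEq (l := [.z, .g]) (l' := [.g, .z]) (by decide +kernel)
  simpa only [elw_cons, elw_nil, mul_one] using h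

theorem zf_comm : el .z * el .f = el .f * el .z := by
  have h := elw_eq_of_checkEq (l := [.z, .f]) (l' := [.f, .z]) (by decide +kernel)
  simpa only [elw_cons, elw_nil, mul_one] using h

theorem dvd_card_hh : 39191040 ∣ Nat.card (centralizer ({hh} : Set Fi23)) := by
  have := H713.Spor.Fi23.finite_fi23
  have hD : Nat.card D = 13063680 := by
    have h1 := card_C
    have h2 := card_D
    omega
  set x : Fi23 := el .f * el .g with hx
  have hcomm : ∀ k ∈ D, x * k = k * x := by
    intro k hk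
    obtain ⟨⟨h1, h2⟩, h3⟩ := mem_D.1 hk
    rw [hx, mul_assoc, ← h2, ← mul_assoc, ← h3, mul_assoc]
  let f : zpowers x × D →* Fi23 := MonoidHom.noncommCoprod (zpowers x).subtype D.subtype (fun a b => by
    obtain ⟨i, hi⟩ := a.2
    have hi' : x ^ i = (a : Fi23) := hi
    show Commute (a : Fi23) (b : Fi23)
    rw [← hi']
    exact (show Commute x (b : Fi23) from hcomm b b.2).zpow_left i)
  have hf : ∀ a b, f (a, b) = (a : Fi23) * b := by
    intro a b
    simp [f]
  have hinj : Function.Injective f := by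
    rw [injective_iff_map_eq_one]
    rintro ⟨a, b⟩ hab
    rw [hf] at hab
    have h1 : (a : Fi23) ∈ D := by
      rw [eq_inv_of_mul_eq_one_left hab]
      exact inv_mem b.2
    obtain ⟨⟨-, -⟩, h2⟩ := mem_D.1 h1
    obtain ⟨i, hi⟩ := a.2
    have hi' : x ^ i = (a : Fi23) := hi
    have h3 : el .f * x * (el .f)⁻¹ = x⁻¹ := by
      rw [hx, el_inv, mul_inv_rev, el_inv, el_inv, ← mul_assoc, el_sq, one_mul]
    have h4 : el .f * x ^ i * (el .f)⁻¹ = (x ^ i)⁻¹ := by
      rw [← conj_zpow, h3, inv_zpow]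
    have h5 : x ^ i = (x ^ i)⁻¹ := by
      rw [← h4, hi', ← h2, mul_inv_cancel_right]
    have h6 : x ^ i * x ^ i = 1 := by
      nth_rewrite 1 [h5]
      exact inv_mul_cancel _
    have h7 : (x ^ i) ^ 3 = 1 := by
      rw [← zpow_natCast, ← zpow_mul, mul_comm, zpow_mul, zpow_natCast, hx, fg_three, one_zpow]
    have h8 : x ^ i = 1 := by
      have : (x ^ i) ^ 3 = (x ^ i * x ^ i) * x ^ i := by group
      rw [h7, h6, one_mul] at this
      exact this.symm
    have h9 : (a : Fi23) = 1 := by rw [← hi', h8]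
    rw [h9, one_mul] at hab
    exact Prod.ext (Subtype.ext h9) (Subtype.ext hab)
  have hle : f.range ≤ centralizer ({hh} : Set Fi23) := by
    rintro _ ⟨⟨a, b⟩, rfl⟩
    rw [hf]
    have c0 : Commute x hh := by
      have c1 : Commute x (el .z) := by
        show x * el .z = el .z * x
        rw [hx, mul_assoc, ← zg_comm, ← mul_assoc, ← zf_comm, mul_assoc]
      have : hh = x * el .z := by rw [hx]; unfold hh; group
      rw [this]
      exact (Commute.refl x).mul_right c1
    have c2 : Commute (a : Fi23) hh := by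
      obtain ⟨i, hi⟩ := a.2
      have hi' : x ^ i = (a : Fi23) := hi
      rw [← hi']
      exact c0.zpow_left i
    have c3 : Commute (b : Fi23) hh := by
      obtain ⟨⟨h1, h2⟩, h3⟩ := mem_D.1 b.2
      exact (show Commute (b : Fi23) (el .f) from h3).mul_right
        ((show Commute (b : Fi23) (el .g) from h2).mul_right h1)
    rw [mem_centralizer_singleton_iff]
    exact (c2.mul_left c3).eq
  have h1 := Subgroup.card_dvd_of_le hle
  rw [← Nat.card_congr (Equiv.ofBijective (f.rangeRestrict) ⟨f.rangeRestrict_injective_iff.2 hinj,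
    f.rangeRestrict_surjective⟩), Nat.card_prod, Nat.card_zpowers, hD, hx, order_fg] at h1
  exact h1

/-! ### The sum over the transpositions -/

section

variable (χ : IrrCharacter Fi23)

/-- the value at the product of a transposition with `g z` -/
noncomputable def F (q : ℕ) : ℂ := (χ : Fi23 → ℂ) (T q * (el .g * el .z))

theorem F_of {k : Fi23} {q : ℕ} (hq : q < 31671) (hk : k * (el .g * el .z) * k⁻¹ = el .g * el .z) :
    F χ (rho k q) = F χ q := by
  unfold F
  symm
  refine H856.F23.conj_eq χ (g := k) ?_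
  rw [T_act k hq]
  calc k * (T q * (el .g * el .z)) * k⁻¹ = k * T q * k⁻¹ * (k * (el .g * el .z) * k⁻¹) := by group
    _ = _ := by rw [hk]

theorem F_C {k : Fi23} {q : ℕ} (hq : q < 31671) (hk : k ∈ C) : F χ (rho k q) = F χ q := by
  obtain ⟨h1, h2⟩ := mem_C.1 hk
  refine F_of χ hq ?_
  rw [mul_inv_eq_iff_eq_mul, ← mul_assoc, h2, mul_assoc, h1, ← mul_assoc]

theorem F_zero : F χ 0 = (χ : Fi23 → ℂ) (el .g) := by
  unfold F
  rw [H856.F23.T0, ← mul_assoc, zg_comm, mul_assoc, el_sq, mul_one]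

theorem F_g : F χ 8005 = (χ : Fi23 → ℂ) (el .z) := by
  unfold F
  rw [show (8005 : ℕ) = pt .g from rfl, T_pt, ← mul_assoc, el_sq, one_mul]

theorem F_f : F χ 8002 = (χ : Fi23 → ℂ) hh := by
  unfold F
  rw [show (8002 : ℕ) = pt .f from rfl, T_pt]
  rfl

theorem F_nei {q : ℕ} (hq : q < 31671) (h1 : ¬ rho (el .z) q = q) (h2 : ¬ rho (el .g) q = q) : F χ q = F χ 1 := by
  obtain ⟨k, hk, rfl⟩ := orb_nei ((testBit_neiM q).2 ⟨hq, h1, h2⟩)
  exact F_C χ (by norm_num) hk

theorem F_both {q : ℕ} (hq : q < 31671) (h0 : q ≠ 0) (h0' : q ≠ 8005) (h1 : rho (el .z) q = q)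
    (h2 : rho (el .g) q = q) : F χ q = F χ 52 := by
  obtain ⟨k, hk, rfl⟩ := orb_both ((testBit_bothM q).2 ⟨hq, h0, h0', h1, h2⟩)
  exact F_C χ (by norm_num) hk

theorem F_one {q : ℕ} (hq : q < 31671) (h1 : rho (el .z) q = q) (h2 : ¬ rho (el .g) q = q) : F χ q = F χ 8002 := by
  obtain ⟨k, hk, rfl⟩ := orb_one ((testBit_oneM q).2 ⟨hq, h1, h2⟩)
  exact F_C χ (by norm_num) hk

/-- `j z g j` exchanges `z` and `g` -/
def sw : Fi23 := elw [.j, .z, .g, .j]

theorem sw_z : sw * el .z * sw⁻¹ = el .g := by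
  have h := elw_eq_of_checkEq (l := [.j, .z, .g, .j] ++ [.z]) (l' := [.g] ++ [.j, .z, .g, .j]) (by decide +kernel)
  rw [elw_append, elw_append] at h
  have h1 : ∀ x : Lt, elw [x] = el x := fun x => by rw [elw_cons, elw_nil, mul_one]
  rw [h1, h1] at h
  rw [mul_inv_eq_iff_eq_mul]
  exact h

theorem sw_g : sw * el .g * sw⁻¹ = el .z := by
  have h := elw_eq_of_checkEq (l := [.j, .z, .g, .j] ++ [.g]) (l' := [.z] ++ [.j, .z, .g, .j]) (by decide +kernel)
  rw [elw_append, elw_append] at h
  have h1 : ∀ x : Lt, elw [x] = el x := fun x => by rw [elw_cons, elw_nil, mul_one]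
  rw [h1, h1] at h
  rw [mul_inv_eq_iff_eq_mul]
  exact h

theorem F_two {q : ℕ} (hq : q < 31671) (h1 : ¬ rho (el .z) q = q) (h2 : rho (el .g) q = q) : F χ q = F χ 8002 := by
  have h3 : F χ (rho sw q) = F χ q := by
    refine F_of χ hq ?_
    calc sw * (el .g * el .z) * sw⁻¹ = (sw * el .g * sw⁻¹) * (sw * el .z * sw⁻¹) := by group
      _ = _ := by rw [sw_z, sw_g, zg_comm]
  rw [← h3]
  have e : (rho sw)⁻¹ (rho sw q) = q := (rho sw).symm_apply_apply q
  refine F_one χ (act_lt sw hq) ?_ ?_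
  · rw [← sw_g, map_mul, map_mul, map_inv, Equiv.Perm.mul_apply, Equiv.Perm.mul_apply, e, h2]
  · intro h4
    apply h1
    rw [← sw_z, map_mul, map_mul, map_inv, Equiv.Perm.mul_apply, Equiv.Perm.mul_apply, e] at h4
    exact (rho sw).injective h4

theorem sum_F : ∑ q ∈ Finset.range 31671, F χ q = (χ : Fi23 → ℂ) (el .g) + (χ : Fi23 → ℂ) (el .z) + 693 * F χ 52 +
    25344 * F χ 1 + 5632 * F χ 8002 := by
  classical
  set s := Finset.range 31671 with hs
  set A : ℕ → Prop := fun q => ¬ rho (el .z) q = q ∧ ¬ rho (el .g) q = q with hA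
  set B : ℕ → Prop := fun q => rho (el .z) q = q ∧ rho (el .g) q = q with hB
  have h0 : rho (el .z) 0 = 0 := (fix_pt_iff (el .z) .z).2 rfl
  have h0' : rho (el .g) 0 = 0 := (fix_pt_iff (el .g) .z).2 zg_comm.symm
  have h5 : rho (el .z) 8005 = 8005 := (fix_pt_iff (el .z) .g).2 zg_comm
  have h5' : rho (el .g) 8005 = 8005 := (fix_pt_iff (el .g) .g).2 rfl
  have cA : (s.filter A).card = 25344 := by
    rw [← card_nei, ← Set.ncard_coe_finset]
    congr 1
    ext q
    simp [hs, hA]
  have cB : (((s.filter B).erase 0).erase 8005).card = 693 := by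
    rw [← card_both, ← Set.ncard_coe_finset]
    congr 1
    ext q
    simp only [hs, hB, Finset.coe_erase, Finset.coe_filter, Finset.mem_range, Set.mem_sdiff, Set.mem_ofPred_eq,
      Set.mem_singleton_iff]
    tauto
  have m0 : (0 : ℕ) ∈ s.filter B := Finset.mem_filter.2 ⟨by simp [hs], h0, h0'⟩
  have m5 : (8005 : ℕ) ∈ (s.filter B).erase 0 :=
    Finset.mem_erase.2 ⟨by decide, Finset.mem_filter.2 ⟨by simp [hs], h5, h5'⟩⟩
  have cB' : (s.filter B).card = 695 := by
    rw [Finset.card_erase_of_mem m5, Finset.card_erase_of_mem m0] at cB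
    omega
  have c1 := Finset.card_filter_add_card_filter_not (s := s) A
  have c2 := Finset.card_filter_add_card_filter_not (s := s.filter fun q => ¬ A q) B
  have e1 : (s.filter fun q => ¬ A q).filter B = s.filter B := by
    rw [Finset.filter_filter]
    refine Finset.filter_congr fun q _ => ?_
    exact ⟨fun h => h.2, fun h => ⟨fun h' => h'.1 h.1, h⟩⟩
  have cs : s.card = 31671 := Finset.card_range _
  rw [e1] at c2
  have cR : ((s.filter fun q => ¬ A q).filter fun q => ¬ B q).card = 5632 := by omega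
  rw [← Finset.sum_filter_add_sum_filter_not s A, ← Finset.sum_filter_add_sum_filter_not (s.filter fun q => ¬ A q) B,
    e1, ← Finset.add_sum_erase _ _ m0, ← Finset.add_sum_erase _ _ m5, F_zero, F_g]
  have s1 : ∑ x ∈ s.filter A, F χ x = 25344 * F χ 1 := by
    rw [Finset.sum_congr rfl (g := fun _ => F χ 1), Finset.sum_const, cA, nsmul_eq_mul]
    · norm_num
    · intro q hq
      rw [Finset.mem_filter, hs, Finset.mem_range] at hq
      exact F_nei χ hq.1 hq.2.1 hq.2.2
  have s2 : ∑ x ∈ ((s.filter B).erase 0).erase 8005, F χ x = 693 * F χ 52 := by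
    rw [Finset.sum_congr rfl (g := fun _ => F χ 52), Finset.sum_const, cB, nsmul_eq_mul]
    · norm_num
    · intro q hq
      rw [Finset.mem_erase, Finset.mem_erase, Finset.mem_filter, hs, Finset.mem_range] at hq
      exact F_both χ hq.2.2.1 hq.2.1 hq.1 hq.2.2.2.1 hq.2.2.2.2
  have s3 : ∑ x ∈ (s.filter fun q => ¬ A q).filter fun q => ¬ B q, F χ x = 5632 * F χ 8002 := by
    rw [Finset.sum_congr rfl (g := fun _ => F χ 8002), Finset.sum_const, cR, nsmul_eq_mul]
    · norm_num
    · intro q hq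
      rw [Finset.mem_filter, Finset.mem_filter, hs, Finset.mem_range] at hq
      obtain ⟨⟨h1, h2⟩, h3⟩ := hq
      by_cases h4 : rho (el .z) q = q
      · exact F_one χ h1 h4 fun h6 => h3 ⟨h4, h6⟩
      · by_cases h6 : rho (el .g) q = q
        · exact F_two χ h1 h4 h6
        · exact absurd ⟨h4, h6⟩ h2
  rw [s1, s2, s3]
  ring

theorem sum_rel : 31671 * ((χ : Fi23 → ℂ) (el .z) * (χ : Fi23 → ℂ) (el .g * el .z)) = (χ : Fi23 → ℂ) 1 *
    ∑ q ∈ Finset.range 31671, F χ q := by
  classical
  have := H713.Spor.Fi23.finite_fi23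
  have := Fintype.ofFinite Fi23
  have h := Central.sum_char_conj_mul χ.2 (el .z) (el .g * el .z)
  have h1 : ∀ a : Fi23, (χ : Fi23 → ℂ) (a * el .z * a⁻¹ * (el .g * el .z)) = F χ (rho a 0) := by
    intro a
    unfold F
    rw [T_act a (by norm_num), H856.F23.T0]
  rw [Finset.sum_congr rfl fun a _ => h1 a] at h
  have h2 : ∑ a : Fi23, F χ (rho a 0) = ∑ q ∈ Finset.range 31671, (129123503308800 : ℂ) * F χ q := by
    rw [← Finset.sum_fiberwise_of_maps_to (t := Finset.range 31671) (g := fun a : Fi23 => rho a 0)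
      (f := fun a => F χ (rho a 0)) (fun a _ => Finset.mem_range.2 (act_lt a (by norm_num)))]
    refine Finset.sum_congr rfl fun q hq => ?_
    have hq' := Finset.mem_range.1 hq
    rw [Finset.sum_congr rfl (g := fun _ => F χ q) (fun a ha => by
      rw [Finset.mem_filter] at ha; rw [ha.2]), Finset.sum_const, nsmul_eq_mul]
    congr 1
    have h3 : (Finset.univ.filter fun a : Fi23 => rho a 0 = q).card =
        Nat.card {a : Fi23 // a * el .z * a⁻¹ = T q} := by
      rw [Nat.card_eq_fintype_card, Fintype.card_subtype]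
      congr 1
      ext a
      simp only [Finset.mem_filter, Finset.mem_univ, true_and]
      rw [← H856.F23.T0, ← T_act a (by norm_num)]
      exact ⟨fun h => by rw [h], fun h => T_inj (act_lt a (by norm_num)) hq' h⟩
    rw [h3, ClassMul.card_fiber_conj, H856.F23.card_cent]
    · norm_num
    · obtain ⟨k, rfl⟩ := exists_rep hq'
      exact isConj_iff.2 ⟨k, by rw [T_act k (by norm_num), H856.F23.T0]⟩
  rw [h2, ← Finset.mul_sum, card_G] at h
  have h1' := isIrr_apply_one_ne_zero χ.2
  rw [eq_div_iff h1'] at h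
  have h9 : (129123503308800 : ℂ) ≠ 0 := by norm_num
  apply mul_left_cancel₀ h9
  have h10 : ((4089470473293004800 : ℕ) : ℂ) = 129123503308800 * 31671 := by norm_num
  rw [h10] at h
  linear_combination -h

end

open Cfsg.Agent.Fischer.Fi23Z (z0)

theorem num1 {t i : ℕ} (h : 39191040 * t * i = 4089470473293004800) : t * i = 104347077120 := by
  have h1 : (4089470473293004800 : ℕ) = 39191040 * 104347077120 := by norm_num
  rw [h1, mul_assoc] at h
  exact Nat.eq_of_mul_eq_mul_left (by norm_num) h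

theorem num2 {b m : ℤ} (hb : b = 57288 ∨ b = 234696 ∨ b = -120120) (h : 143137280 * (391 * b) = 9 * m) : False := by
  have h1 : (143137280 * (391 * b)) % 9 = 0 := by rw [h]; exact Int.mul_emod_right 9 m
  rcases hb with rfl | rfl | rfl <;> norm_num at h1

theorem isConj_el (x : Lt) : IsConj z0 (el x) := by
  obtain ⟨k, hk⟩ := exists_rep (pt_lt x)
  rw [← T_pt x, ← hk, T_act k (by norm_num), T_zero]
  exact isConj_iff.2 ⟨k, rfl⟩

/-- the congruence modulo 9 -/
theorem num3 {t i : ℕ} {b : ℤ} {k F1 F52 : ℂ} (hti : t * i = 104347077120)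
    (h1 : 31671 * (648648 * (b : ℂ)) = ((52540488 : ℤ) : ℂ) * (648648 + 648648 + 693 * F52 + 25344 * F1 + 5632 * k))
    (hint : IsIntegral ℤ ((i : ℂ) * k / ((52540488 : ℤ) : ℂ))) (h52 : IsIntegral ℤ F52) (h11 : IsIntegral ℤ F1) :
    ∃ m : ℤ, 143137280 * (391 * b) = 9 * m := by
  have hw : (143137280 : ℂ) * k = 9 * (8008 * (t * (i * k / ((52540488 : ℤ) : ℂ)))) := by
    have h4 : ((t * i : ℕ) : ℂ) = 104347077120 := by rw [hti]; norm_num
    push_cast at h4 ⊢
    have h5 : (t : ℂ) * (i * k / 52540488) = (t * i) * k / 52540488 := by ring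
    rw [h5, h4]
    ring
  set V : ℂ := i * k / ((52540488 : ℤ) : ℂ) with hV
  have h6 : ((143137280 * (391 * b) : ℤ) : ℂ) = 9 * (143137280 * (144144 + 77 * F52 + 2816 * F1) +
      5632 * (8008 * (t * V))) := by
    have h7 : 9 * (5632 * (8008 * (t * V))) = 5632 * (143137280 * k) := by
      rw [hw]; ring
    have h8 : (391 : ℂ) * b = 648648 + 648648 + 693 * F52 + 25344 * F1 + 5632 * k := by
      have h9 : (52540488 : ℂ) ≠ 0 := by norm_num
      apply mul_left_cancel₀ h9
      push_cast at h1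
      linear_combination h1
    rw [mul_add, h7]
    push_cast
    rw [h8]
    ring
  have hn : ∀ m : ℕ, IsIntegral ℤ (m : ℂ) := fun m => isIntegral_natCast m
  have hWi : IsIntegral ℤ (((143137280 : ℕ) : ℂ) * (((144144 : ℕ) : ℂ) + ((77 : ℕ) : ℂ) * F52 + ((2816 : ℕ) : ℂ) * F1) +
      ((5632 : ℕ) : ℂ) * (((8008 : ℕ) : ℂ) * (t * V))) :=
    ((hn 143137280).mul (((hn 144144).add ((hn 77).mul h52)).add ((hn 2816).mul h11))).add
      ((hn 5632).mul ((hn 8008).mul ((hn t).mul hint)))
  obtain ⟨m, hm⟩ := GaloisBasic.exists_int_of_isIntegral hWi ⟨(143137280 * (391 * b) : ℚ) / 9, by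
    push_cast at h6 ⊢
    rw [h6]
    ring⟩
  refine ⟨m, ?_⟩
  have h7 : ((143137280 * (391 * b) : ℤ) : ℂ) = ((9 * m : ℤ) : ℂ) := by
    rw [h6]
    push_cast at hm ⊢
    rw [hm]
  exact_mod_cast h7

/-- **no character of degree `52540488`** -/
theorem killA {χ : IrrCharacter Fi23} {b c : ℤ} (V : H174.Ore.Fi23Rk.Vals χ 52540488 648648 b c)
    (hb : b = 57288 ∨ b = 234696 ∨ b = -120120) : False := by
  have := H713.Spor.Fi23.finite_fi23
  have vz : (χ : Fi23 → ℂ) (el .z) = 648648 := by rw [V.val_d _ (isConj_el .z)]; norm_num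
  have vg : (χ : Fi23 → ℂ) (el .g) = 648648 := by rw [V.val_d _ (isConj_el .g)]; norm_num
  have vb : (χ : Fi23 → ℂ) (el .g * el .z) = b := by
    refine V.val_c _ _ (isConj_el .g) (isConj_el .z) ?_ zg_comm.symm
    intro h1
    rw [← T_pt, ← T_pt] at h1
    exact absurd (T_inj (pt_lt _) (pt_lt _) h1) (by decide)
  have h1 := sum_rel χ
  rw [sum_F, vz, vg, vb, V.one, F_f] at h1
  -- the central character at `hh`
  have hint := isIntegral_om χ hh
  unfold om at hint
  rw [V.one] at hint
  obtain ⟨t, ht⟩ := dvd_card_hh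
  have hi := (centralizer ({hh} : Set Fi23)).card_mul_index
  rw [ht, card_G] at hi
  set i := (centralizer ({hh} : Set Fi23)).index with hidef
  have hF : ∀ q, IsIntegral ℤ (F χ q) := fun q => GaloisBasic.isIntegral_apply (isIrr_isCharacter χ.2) _
  obtain ⟨m, hm⟩ := num3 (num1 hi) h1 hint (hF 52) (hF 1)
  exact num2 hb hm

end Cfsg.Agent.H343.LD.KA
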