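import Cfsg.Agent.H343.LD.Cls7
import Cfsg.Agent.H66.LD.F23Psi
import Cfsg.Agent.H536.LD.ColTwo
import Cfsg.Agent.H552.LD.SevenTab

/-!
# S4910, the row `Fi₂₃`: the degree `5987520` (helper343; final call)
-/

set_option autoImplicit false
set_option maxRecDepth 100000

namespace Cfsg.Agent.H343.LD.KB

open Cfsg Subgroup Cfsg.Agent.LThreeFi23 Cfsg.Agent.Characters Cfsg.Agent.Characters.Core
open Cfsg.Agent.SmallSimple.ThetaSetup
open Cfsg.Agent.H838.Fi23 (SL L7)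
open Cfsg.Agent.H66.LD.F23
open Cfsg.Agent.H343.LD
open Cfsg.Agent.H552.LD
open Cfsg.Spor (Fi23)
open scoped ComplexConjugate

/-- transport of a character of `S₇` -/
noncomputable def tr (φ : IrrCharacter S7) : IrrCharacter (SL L7) :=
  ⟨(φ : S7 → ℂ) ∘ e7.symm.toMonoidHom, isIrr_comp e7.symm.toMonoidHom e7.symm.surjective φ.2⟩

theorem tr_apply (φ : IrrCharacter S7) (s : S7) : (tr φ : SL L7 → ℂ) (e7 s) = (φ : S7 → ℂ) s := by
  show (φ : S7 → ℂ) (e7.symm (e7 s)) = _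
  rw [e7.symm_apply_apply]

theorem tr_deg (φ : IrrCharacter S7) : charDegree (tr φ : SL L7 → ℂ) = charDegree (φ : S7 → ℂ) := by
  apply Blocks.Basic.charDegree_of_eq
  rw [← Blocks.Basic.irr_one_eq_charDegree φ.2, ← tr_apply, map_one]

theorem inner_eq {χ : IrrCharacter Fi23} {ψ : S7 → ℤ} (hψ : ∀ s, (χ : Fi23 → ℂ) (elw y5 * f7 s) = ψ s)
    (φ : IrrCharacter S7) {w : ℤ} (hw : part (tr φ : SL L7 → ℂ) (χ : Fi23 → ℂ) (elw y5) = w) :
    classInner (fun s : S7 => (ψ s : ℂ)) (φ : S7 → ℂ) = (w : ℂ) := by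
  have := Fintype.ofFinite (SL L7)
  rw [← hw, part_eq, classInner_def]
  have h1 : Nat.card (SL L7) = Nat.card S7 := Nat.card_congr e7.symm.toEquiv
  rw [h1]
  congr 1
  rw [← e7.toEquiv.sum_comp]
  refine Finset.sum_congr rfl fun s _ => ?_
  show _ = (χ : Fi23 → ℂ) (elw y5 * ((e7 s : SL L7) : Fi23)) * conj ((tr φ : SL L7 → ℂ) (e7 s))
  rw [e7_coe, hψ, tr_apply]

/-- **no character of degree `5987520`** -/
theorem killB {χ : IrrCharacter Fi23} {b c i : ℤ} (V : H174.Ore.Fi23Rk.Vals χ 5987520 (-221760) b c)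
    (hc : c = -24759 + 2457 * i) (hb : b = 271040 - 19712 * i) : False := by
  classical
  have := Fintype.ofFinite (SL L7)
  obtain ⟨ψ, β, hψ, hβ, hconj, hcong, -⟩ := exists_psi χ
  obtain ⟨-, -, vb, vc⟩ := vals V hβ
  have hE : SevenTab.Eig ψ := ⟨fun g s => (hconj s _ (isConj_iff.2 ⟨g, rfl⟩)).symm, fun s => by
    have h1 := eig_psi V hψ s
    convert h1⟩
  obtain ⟨A, -, hA, -, -⟩ := loc.exists_int (by norm_num) χ (tr SevenTab.phi15)
  obtain ⟨B, -, hB, -, -⟩ := loc.exists_int (by norm_num) χ (tr SevenTab.phi35)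
  have h15 := SevenTab.main15 hE (inner_eq hψ _ hA)
  have h35 := SevenTab.main35 hE (inner_eq hψ _ hB)
  have cb := hcong (Equiv.swap 0 1 * Equiv.swap 2 3)
  have cc := hcong (Equiv.swap 0 1 * Equiv.swap 1 2)
  rw [vb] at cb
  rw [vc] at cc
  have hA5 : (5 : ℤ) ∣ A - (b - c) := by omega
  have hB5 : (5 : ℤ) ∣ B - (c - 2 * b) := by omega
  have hK : (Nat.card (SL L7)).factorization 5 = 1 := by
    rw [card_SL7, show 5040 = 5 ^ 1 * 1008 by norm_num, Nat.factorization_mul (by norm_num) (by norm_num)]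
    have h5 : (1008 : ℕ).factorization 5 = 0 := Nat.factorization_eq_zero_of_not_dvd (by norm_num)
    rw [Finsupp.add_apply, h5, Nat.Prime.factorization_pow (by norm_num)]
    simp
  refine H536.LD.ColOne.endC loc (tr SevenTab.phi15) (tr SevenTab.phi35) (by rw [tr_deg, SevenTab.deg15])
    (by rw [tr_deg, SevenTab.deg35]) hK V hc hb hA hB hA5 hB5 H536.LD.ColOne.isConj_uu_ab ?_
  exact Cls7.cls3 _ SevenTab.t15 (fun s => by rw [tr_apply, SevenTab.phi15_int]) (fun s hs => SevenTab.t15_three hs)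
    (fun s hs => SevenTab.t15_three_three hs) (IsConj.refl _)

end Cfsg.Agent.H343.LD.KB
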