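import Cfsg.Agent.H870.Fi23Fix
import Cfsg.Agent.KFacts.FiTTh.Cent

/-!
# `Fi₂₃`: the orbits of `C(z, a)` on the 31671 transpositions (helper548, for S4910)

`z`, `a` commuting transpositions. `C2 = C(z, a)` is transitive on the 693 other transpositions commuting with both, on the 2816
commuting with `z` only, on the 2816 commuting with `a` only and on the 25344 commuting with neither.
-/

set_option autoImplicit false
set_option maxRecDepth 100000
set_option exponentiation.threshold 40000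
set_option linter.constructorNameAsVariable false

namespace Cfsg.Agent.H343.LD.KillA

open Subgroup
open Cfsg.Agent.Lib.PermNet Cfsg.Agent.Lib.PermNetFix Cfsg.Agent.Lib.PermNetOrbit
open Cfsg.Agent.Fischer.Fi23Z Cfsg.Agent.Fischer.Fi23Hom
open Cfsg.Agent.Fischer Cfsg.Agent.Fischer.Fi23Class Cfsg.Agent.Fischer.Fi23Simple
open Cfsg.Agent.KFacts.FiTTh.Cent
open Cfsg.Agent.LThreeFi23
open Cfsg.Agent.H870.Fi23Fix (Fx Fx_word fxm testBit_fxm fxm_lt)
open Cfsg.Spor Cfsg.Spor.Fi23

/-- generators of a subgroup of `C(z, a)` -/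
def gw : List (List Lt) := [[.c], [.d], [.e], [.f], [.g], [.h], [.i],
  [.b, .c, .d, .h, .a, .b, .c, .d, .e, .f, .j, .g, .z, .j, .z, .j, .z, .g, .j, .f, .e, .d, .c, .b, .a, .h, .d, .c, .b]]

noncomputable def gn : List (List Net) := gw.map ntw

theorem gw_fix : (gw.all fun l => Nat.beq (ptw l 0) 0 && Nat.beq (ptw l 11589) 11589) = true := by decide +kernel

theorem gw_mem {l : List Lt} (hl : l ∈ gw) : elw l ∈ C2 := by
  have h := List.all_eq_true.1 gw_fix l hl
  rw [Bool.and_eq_true] at h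
  refine ⟨?_, ?_⟩
  · have := Nat.eq_of_beq_eq_true h.1
    rwa [ptw_eq] at this
  · have := Nat.eq_of_beq_eq_true h.2
    rwa [ptw_eq] at this

theorem gn_ok : WsOk (2 ^ 15) gn := by
  intro w hw
  obtain ⟨l, -, rfl⟩ := List.mem_map.1 hw
  exact ntw_ok l

theorem orb {r p₀ p : ℕ} (h : (sat gn r (2 ^ p₀)).testBit p = true) : ∃ g ∈ C2, rho g p₀ = p := by
  obtain ⟨k, hk, hk'⟩ := sat_point_spec (N := 2 ^ 15) (K := C2.map rho) gn_ok (fun w hw => by
    obtain ⟨l, hl, rfl⟩ := List.mem_map.1 hw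
    exact ⟨elw l, gw_mem hl, rho_elw l⟩) r h
  obtain ⟨g, hg, rfl⟩ := hk
  exact ⟨g, hg, hk'⟩

/-- the mask of all points -/
noncomputable def full : ℕ := Nat.sub (Nat.pow 2 31671) 1

theorem chk1 : Nat.beq (sat gn 4 (Nat.pow 2 8003))
    (Nat.land (Nat.land (fxm [.z]) (fxm [.a])) (Nat.xor full (Nat.lor (Nat.pow 2 0) (Nat.pow 2 11589)))) = true := by
  decide +kernel

theorem chk2 : Nat.beq (sat gn 4 (Nat.pow 2 8004)) (Nat.land (fxm [.z]) (Nat.xor full (fxm [.a]))) = true := by
  decide +kernel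

theorem chk2' : Nat.beq (sat gn 6 (Nat.pow 2 8006)) (Nat.land (fxm [.a]) (Nat.xor full (fxm [.z]))) = true := by
  decide +kernel

theorem chk3 : Nat.beq (sat gn 6 (Nat.pow 2 8)) (Nat.xor full (Nat.lor (fxm [.z]) (fxm [.a]))) = true := by
  decide +kernel

theorem cnt : Nat.beq (pc 15 (Nat.land (fxm [.z]) (fxm [.a]))) 695 = true := by decide +kernel

theorem cntz : Nat.beq (pc 15 (fxm [.z])) 3511 = true := by decide +kernel

theorem cnta : Nat.beq (pc 15 (fxm [.a])) 3511 = true := by decide +kernel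

theorem full_eq : full = 2 ^ 31671 - 1 := rfl

theorem testBit_full (p : ℕ) : full.testBit p = decide (p < 31671) := by
  rw [full_eq, Nat.testBit_two_pow_sub_one]

theorem elw_one (x : Lt) : elw [x] = el x := by rw [elw_cons, elw_nil, mul_one]

theorem bit_iff (x : Lt) (p : ℕ) : (fxm [x]).testBit p = true ↔ p < 31671 ∧ rho (el x) p = p := by
  rw [testBit_fxm, elw_one]

theorem bit_false {x : Lt} {p : ℕ} (h : rho (el x) p ≠ p) : (fxm [x]).testBit p = false := by
  rw [← Bool.not_eq_true, bit_iff]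
  exact fun h' => h h'.2

/-- the transpositions commuting with `z` and `a` -/
theorem orb1 {p : ℕ} (hp : p < 31671) (hz : rho (el .z) p = p) (ha : rho (el .a) p = p) (h0 : p ≠ 0) (h1 : p ≠ 11589) :
    ∃ g ∈ C2, rho g 8003 = p := by
  refine orb (r := 4) ?_
  have h := Nat.eq_of_beq_eq_true chk1
  change sat gn 4 (2 ^ 8003) = (fxm [.z] &&& fxm [.a]) &&& (full ^^^ (2 ^ 0 ||| 2 ^ 11589)) at h
  rw [h, Nat.testBit_and, Nat.testBit_and, (bit_iff .z p).2 ⟨hp, hz⟩, (bit_iff .a p).2 ⟨hp, ha⟩, Nat.testBit_xor,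
    testBit_full, Nat.testBit_or, Nat.testBit_two_pow, Nat.testBit_two_pow, decide_eq_true hp,
    decide_eq_false (Ne.symm h0), decide_eq_false (Ne.symm h1)]
  rfl

/-- the transpositions commuting with `z` only -/
theorem orb2 {p : ℕ} (hp : p < 31671) (hz : rho (el .z) p = p) (ha : rho (el .a) p ≠ p) :
    ∃ g ∈ C2, rho g 8004 = p := by
  refine orb (r := 4) ?_
  have h := Nat.eq_of_beq_eq_true chk2
  change sat gn 4 (2 ^ 8004) = fxm [.z] &&& (full ^^^ fxm [.a]) at h
  rw [h, Nat.testBit_and, (bit_iff .z p).2 ⟨hp, hz⟩, Nat.testBit_xor, testBit_full, bit_false ha, decide_eq_true hp]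
  rfl

/-- the transpositions commuting with `a` only -/
theorem orb2' {p : ℕ} (hp : p < 31671) (hz : rho (el .z) p ≠ p) (ha : rho (el .a) p = p) :
    ∃ g ∈ C2, rho g 8006 = p := by
  refine orb (r := 6) ?_
  have h := Nat.eq_of_beq_eq_true chk2'
  change sat gn 6 (2 ^ 8006) = fxm [.a] &&& (full ^^^ fxm [.z]) at h
  rw [h, Nat.testBit_and, (bit_iff .a p).2 ⟨hp, ha⟩, Nat.testBit_xor, testBit_full, bit_false hz, decide_eq_true hp]
  rfl

/-- the transpositions commuting with neither -/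
theorem orb3 {p : ℕ} (hp : p < 31671) (hz : rho (el .z) p ≠ p) (ha : rho (el .a) p ≠ p) :
    ∃ g ∈ C2, rho g 8 = p := by
  refine orb (r := 6) ?_
  have h := Nat.eq_of_beq_eq_true chk3
  change sat gn 6 (2 ^ 8) = full ^^^ (fxm [.z] ||| fxm [.a]) at h
  rw [h, Nat.testBit_xor, testBit_full, Nat.testBit_or, bit_false hz, bit_false ha, decide_eq_true hp]
  rfl

/-! ### Cardinalities -/

theorem pc_and {x y : ℕ} (hx : x < 2 ^ 2 ^ 15) : pc 15 (x &&& y) = (bits (2 ^ 15) (x &&& y)).card :=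
  pc_eq 15 _ (lt_of_le_of_lt Nat.and_le_left hx)

open Classical in
theorem card_za : ((Finset.range 31671).filter fun p => rho (el .z) p = p ∧ rho (el .a) p = p).card = 695 := by
  have h1 : pc 15 (fxm [.z] &&& fxm [.a]) = 695 := Nat.eq_of_beq_eq_true cnt
  have h2 := pc_and (x := fxm [.z]) (y := fxm [.a]) (fxm_lt [.z])
  refine Eq.trans ?_ (h2.symm.trans h1)
  refine congrArg Finset.card (Finset.ext fun p => ?_)
  rw [Finset.mem_filter, Finset.mem_range, mem_bits, Nat.testBit_and, Bool.and_eq_true, bit_iff, bit_iff]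
  constructor
  · rintro ⟨h, h2, h3⟩
    exact ⟨lt_trans h (by norm_num), ⟨h, h2⟩, h, h3⟩
  · rintro ⟨-, ⟨h, h2⟩, -, h3⟩
    exact ⟨h, h2, h3⟩

open Classical in
theorem card_one {x : Lt} (hx : Nat.beq (pc 15 (fxm [x])) 3511 = true) :
    ((Finset.range 31671).filter fun p => rho (el x) p = p).card = 3511 := by
  have h1 : pc 15 (fxm [x]) = 3511 := Nat.eq_of_beq_eq_true hx
  refine Eq.trans ?_ ((pc_eq 15 (fxm [x]) (fxm_lt [x])).symm.trans h1)
  refine congrArg Finset.card (Finset.ext fun p => ?_)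
  rw [Finset.mem_filter, Finset.mem_range, mem_bits, bit_iff]
  constructor
  · rintro ⟨h, h2⟩
    exact ⟨lt_trans h (by norm_num), h, h2⟩
  · rintro ⟨-, h, h2⟩
    exact ⟨h, h2⟩

open Classical in
theorem card_z : ((Finset.range 31671).filter fun p => rho (el .z) p = p).card = 3511 := card_one cntz

open Classical in
theorem card_a : ((Finset.range 31671).filter fun p => rho (el .a) p = p).card = 3511 := card_one cnta

end Cfsg.Agent.H343.LD.KillA
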