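import Cfsg.Agent.H66.LD.F23Psi
import Cfsg.Agent.H536.LD.ColTwo
import Cfsg.Agent.H552.LD.SevenTab

/-!
# S4910, the row Fi23: the degree 5987520 (`killB`; helper66, with helper536, helper552)

`C(y5) = ⟨y5⟩ × S₇`; the characters of degree 15 and 35 of `S₇` have defect zero at 5.
-/

set_option autoImplicit false
set_option linter.unusedSectionVars false
set_option maxRecDepth 100000

namespace Cfsg.Agent.H343.LD.KillB

open Cfsg Subgroup Cfsg.Agent.Lib.PermNet Cfsg.Agent.Fischer.Fi23Hom Cfsg.Agent.LThreeFi23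
open Cfsg.Agent.H838.Fi23 (SL L7)
open Cfsg.Agent.Characters.Core Cfsg.Agent.SmallSimple.ThetaSetup
open Cfsg.Agent.H343.LD Cfsg.Agent.H66.LD.F23 Cfsg.Agent.H552.LD.SevenTab
open Cfsg.Spor (Fi23)
open Cfsg.Agent.H174.Ore.Fi23Rk (Vals)
open scoped ComplexConjugate

/-- a character of `SL L7` from a character of `S₇` -/
noncomputable def tr (φ : IrrCharacter S7) : IrrCharacter (SL L7) :=
  ⟨fun y => (φ : S7 → ℂ) (e7.symm y), isIrr_comp e7.symm.toMonoidHom e7.symm.surjective φ.2⟩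

theorem tr_e7 (φ : IrrCharacter S7) (s : S7) : (tr φ : SL L7 → ℂ) (e7 s) = (φ : S7 → ℂ) s := by
  show (φ : S7 → ℂ) (e7.symm (e7 s)) = _
  rw [MulEquiv.symm_apply_apply]

theorem deg_tr (φ : IrrCharacter S7) : charDegree (tr φ : SL L7 → ℂ) = charDegree (φ : S7 → ℂ) := by
  apply Blocks.Basic.charDegree_of_eq
  show (φ : S7 → ℂ) (e7.symm 1) = _
  rw [map_one]
  exact Blocks.Basic.irr_one_eq_charDegree φ.2

theorem part_tr {χ : IrrCharacter Fi23} {ψ : S7 → ℤ} (hψ : ∀ s, (χ : Fi23 → ℂ) (elw y5 * f7 s) = ψ s)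
    (φ : IrrCharacter S7) {w : ℤ} (hw : part (tr φ : SL L7 → ℂ) (χ : Fi23 → ℂ) (elw y5) = w) :
    classInner (fun s : S7 => (ψ s : ℂ)) (φ : S7 → ℂ) = (w : ℂ) := by
  have := Fintype.ofFinite (SL L7)
  rw [part_eq, card_SL7] at hw
  have h1 : ∑ y : SL L7, (χ : Fi23 → ℂ) (elw y5 * y) * conj ((tr φ : SL L7 → ℂ) y) =
      ∑ s : S7, (ψ s : ℂ) * conj ((φ : S7 → ℂ) s) := by
    rw [← e7.toEquiv.sum_comp]
    refine Finset.sum_congr rfl fun s _ => ?_
    show (χ : Fi23 → ℂ) (elw y5 * ((e7 s : SL L7) : Fi23)) * conj ((tr φ : SL L7 → ℂ) (e7 s)) = _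
    rw [e7_coe, hψ, tr_e7]
  rw [h1] at hw
  rw [classInner_def, ← hw]
  have h2 : Nat.card S7 = 5040 := by
    rw [← card_SL7]
    exact Nat.card_congr e7.toEquiv
  rw [h2]

theorem cycleType_of_order {s : S7} (h : orderOf s = 3) : s.IsThreeCycle ∨ s.cycleType = {3, 3} := by
  have h1 : ∀ n ∈ s.cycleType, n = 3 := by
    intro n hn
    have h2 : n ∣ 3 := by rw [← h]; exact Equiv.Perm.dvd_of_mem_cycleType hn
    have h3 := Equiv.Perm.two_le_of_mem_cycleType hn
    rcases (Nat.dvd_prime (by norm_num)).1 h2 with h4 | h4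
    · omega
    · exact h4
  have h2 := Multiset.eq_replicate_card.2 h1
  have h3 : s.cycleType.sum ≤ 7 := by
    rw [Equiv.Perm.sum_cycleType]
    exact (Finset.card_le_univ _).trans (by simp)
  have h4 : s.cycleType ≠ 0 := by
    intro h5
    rw [Equiv.Perm.cycleType_eq_zero] at h5
    rw [h5, orderOf_one] at h
    omega
  rw [h2, Multiset.sum_replicate, smul_eq_mul] at h3
  have h5 : Multiset.card s.cycleType ≠ 0 := fun h => h4 (Multiset.card_eq_zero.1 h)
  have h6 : Multiset.card s.cycleType = 1 ∨ Multiset.card s.cycleType = 2 := by omega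
  rcases h6 with h6 | h6
  · left
    rw [Equiv.Perm.IsThreeCycle, h2, h6]
    rfl
  · right
    rw [h2, h6]
    rfl

theorem order_uu' : orderOf (uu : Fi23) = 3 := order_uu

open scoped Classical in
/-- the sum over 3A ∩ `S₇` -/
theorem cls3 [Fintype (SL L7)] : ∑ u ∈ cls (SL L7) uu, (tr phi15 : SL L7 → ℂ) u = 210 := by
  have h0 : ∑ u ∈ cls (SL L7) uu, (tr phi15 : SL L7 → ℂ) u =
      ∑ t : S7 with IsConj uu (f7 t), (phi15 : S7 → ℂ) t := by
    refine Finset.sum_bij' (i := fun u _ => e7.symm u) (j := fun t _ => e7 t) ?_ ?_ ?_ ?_ ?_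
    · intro u hu
      rw [mem_cls] at hu
      rw [Finset.mem_filter]
      refine ⟨Finset.mem_univ _, ?_⟩
      rw [← e7_coe, MulEquiv.apply_symm_apply]
      exact hu
    · intro t ht
      rw [Finset.mem_filter] at ht
      rw [mem_cls, e7_coe]
      exact ht.2
    · intro u _
      exact e7.apply_symm_apply u
    · intro t _
      exact e7.symm_apply_apply t
    · intro u _
      rfl
  have h1 : ∑ t : S7 with IsConj uu (f7 t), (phi15 : S7 → ℂ) t =
      ∑ t : S7 with t.cycleType = {3}, (phi15 : S7 → ℂ) t := by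
    symm
    apply Finset.sum_subset_zero_on_sdiff
    · intro t ht
      rw [Finset.mem_filter] at ht ⊢
      refine ⟨Finset.mem_univ _, ?_⟩
      have h2 : IsConj (Equiv.swap (0 : Fin 7) 1 * Equiv.swap 1 2) t := by
        rw [Equiv.Perm.isConj_iff_cycleType_eq, ht.2]
        have h3 : (Equiv.swap (0 : Fin 7) 1 * Equiv.swap 1 2).IsThreeCycle := by
          rw [Equiv.swap_comm 0 1]
          exact Equiv.Perm.isThreeCycle_swap_mul_swap_same (by decide) (by decide) (by decide)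
        exact h3
      have h4 := f7.map_isConj h2
      rw [map_mul, f7_a, f7_b] at h4
      exact H536.LD.ColOne.isConj_uu_ab.trans h4
    · intro t ht
      rw [Finset.mem_sdiff, Finset.mem_filter, Finset.mem_filter] at ht
      have h2 : orderOf t = 3 := by
        rw [← orderOf_injective f7 f7_inj, ← order_uu]
        obtain ⟨c, hc⟩ := isConj_iff.1 ht.1.2
        rw [← hc]
        have : c * uu * c⁻¹ = MulAut.conj c uu := rfl
        rw [this, MulEquiv.orderOf_eq]
      rcases cycleType_of_order h2 with h3 | h3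
      · exact absurd ⟨Finset.mem_univ _, h3⟩ ht.2
      · rw [phi15_int, t15_three_three h3, Int.cast_zero]
    · intro t _
      rfl
  have h2 : ∀ t ∈ Finset.univ.filter (fun t : S7 => t.cycleType = {3}), (phi15 : S7 → ℂ) t = 3 := by
    intro t ht
    rw [Finset.mem_filter] at ht
    rw [phi15_int, t15_three ht.2]
    norm_num
  have h3 : (Finset.univ.filter (fun t : S7 => t.cycleType = {3})).card = 70 := by
    have h4 := Equiv.Perm.card_of_cycleType_singleton (α := Fin 7) (n := 3) (by norm_num) (by simp)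
    rw [Fintype.card_fin] at h4
    rw [show (70 : ℕ) = (3 - 1).factorial * Nat.choose 7 3 from by decide, ← h4]
  rw [h0, h1, Finset.sum_congr rfl h2, Finset.sum_const, h3]
  norm_num

theorem fac5 : (Nat.card (SL L7)).factorization 5 = 1 := by
  rw [card_SL7, show 5040 = 5 ^ 1 * 1008 by norm_num, Nat.factorization_mul (by norm_num) (by norm_num)]
  have h5 : Nat.Prime 5 := by norm_num
  simp only [Nat.factorization_pow, Finsupp.coe_add, Finsupp.coe_smul, Pi.add_apply, Pi.smul_apply,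
    h5.factorization, Finsupp.single_eq_same, smul_eq_mul, mul_one]
  rw [Nat.factorization_eq_zero_of_not_dvd (by norm_num)]

open scoped Classical in
theorem eig_of {χ : IrrCharacter Fi23} {b c : ℤ} (h : Vals χ 5987520 (-221760) b c) {ψ : S7 → ℤ}
    (hψ : ∀ s, (χ : Fi23 → ℂ) (elw y5 * f7 s) = ψ s) (hcf : ∀ s t, IsConj s t → ψ s = ψ t) : Eig ψ :=
  ⟨fun g _ => (hcf _ _ (isConj_iff.2 ⟨g, rfl⟩)).symm, fun s => eig_psi h hψ s⟩

/-- **the degree 5987520 of `Fi₂₃`** -/
theorem killB {χ : IrrCharacter Fi23} {b c i : ℤ} (h : Vals χ 5987520 (-221760) b c)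
    (hc : c = -24759 + 2457 * i) (hb : b = 271040 - 19712 * i) : False := by
  classical
  have := Fintype.ofFinite (SL L7)
  obtain ⟨ψ, β, hψ, hβ, hcf, h5, -⟩ := exists_psi χ
  have hE := eig_of h hψ hcf
  obtain ⟨A, -, hA, -⟩ := loc.exists_int (by norm_num) χ (tr phi15)
  obtain ⟨B, -, hB, -⟩ := loc.exists_int (by norm_num) χ (tr phi35)
  have hA1 := main15 hE (part_tr hψ phi15 hA)
  have hB1 := main35 hE (part_tr hψ phi35 hB)
  obtain ⟨-, -, h1, h2⟩ := vals h hβ
  have h3 := h5 (Equiv.swap 0 1 * Equiv.swap 2 3)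
  have h4 := h5 (Equiv.swap 0 1 * Equiv.swap 1 2)
  rw [h1] at h3
  rw [h2] at h4
  refine H536.LD.ColOne.endC loc (tr phi15) (tr phi35) (by rw [deg_tr, deg15]) (by rw [deg_tr, deg35]) fac5 h hc hb
    hA hB ?_ ?_ (IsConj.refl uu) cls3
  · have e := dvd_add hA1 (dvd_sub h3 h4)
    have e' : A - (ψ (Equiv.swap 0 1 * Equiv.swap 2 3) - ψ (Equiv.swap 0 1 * Equiv.swap 1 2)) +
      (ψ (Equiv.swap 0 1 * Equiv.swap 2 3) - b - (ψ (Equiv.swap 0 1 * Equiv.swap 1 2) - c)) = A - (b - c) := by ring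
    rwa [e'] at e
  · have e := dvd_add hB1 (dvd_sub h4 (Dvd.dvd.mul_left h3 2))
    have e' : B - (ψ (Equiv.swap 0 1 * Equiv.swap 1 2) - 2 * ψ (Equiv.swap 0 1 * Equiv.swap 2 3)) +
      (ψ (Equiv.swap 0 1 * Equiv.swap 1 2) - c - 2 * (ψ (Equiv.swap 0 1 * Equiv.swap 2 3) - b)) =
        B - (c - 2 * b) := by ring
    rwa [e'] at e

end Cfsg.Agent.H343.LD.KillB
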