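import Cfsg.Agent.H618.LD.Prin2
import Cfsg.Agent.H856.F23.Deg
import Cfsg.Agent.H300.PSq.FiTwentyThree

/-!
# S4910, the row Fi23 (helper618 for helper343): the columns of 17 and 23

* `exists_neg` : there is a character of degree `≡ 1 mod 17`, `≡ -1 mod 23`, or `≡ -1 mod 17`, `≡ 1 mod 23`;
* `res23` : the residues of the degrees modulo 23.
-/

set_option autoImplicit false

namespace Cfsg.Agent.H343.LD

open Cfsg Subgroup
open Cfsg.Spor (Fi23)
open Cfsg.Agent.H618.LD.Blk Cfsg.Agent.H618.LD.Mom Cfsg.Agent.H618.LD.Prin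
open Cfsg.Agent.SmallSimple.ThetaSetup Cfsg.Agent.SmallSimple.ThetaOrtho
open Cfsg.Agent.Lib.PermNet Cfsg.Agent.Fischer.Fi23Hom Cfsg.Agent.LThreeFi23

/-- the principal 23-block -/
theorem exists_pb23 [Finite Fi23] [Fact (Nat.Prime 23)] : ∃ (P : Sylow 23 Fi23) (K : Subgroup Fi23)
    (NE X : Finset (IrrCharacter Fi23)) (ε : IrrCharacter Fi23 → ℤ) (d : ℤ),
    Nat.card P = 23 ∧ IsComp 23 (P : Subgroup Fi23) K ∧ Nat.card K = 1 ∧ PB P K 11 2 NE X ε d := by
  let P : Sylow 23 Fi23 := default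
  have hP : Nat.card P = 23 := card_sylow P card_G (by norm_num) (by norm_num)
  obtain ⟨x, hx, hx1⟩ := exists_ne_one (P := (P : Subgroup Fi23)) hP
  have hox : orderOf x = 23 := Blocks.CyclicOrtho.orderOf_eq P hP hx hx1
  have hc : Nat.card (centralizer ({x} : Set Fi23)) = 23 := by
    have h := (Cfsg.Agent.H961.SepFi23.data23 (R := zpowers x) (by rw [Nat.card_zpowers, hox])).1
    rwa [zpowers_eq_closure, centralizer_closure] at h
  obtain ⟨K, hK⟩ := exists_isComp P hP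
  have h1 : Nat.card K = 1 := card_comp hK hP hx hx1 (c := 1) (by rw [mul_one]; exact hc)
  have he := relIndex_eq hP hK hx hx1 card_G hc (e := 11) (by norm_num) (by norm_num)
  obtain ⟨NE, X, ε, d, B⟩ := exists_pb hP hK he (t := 2) (by norm_num) (by norm_num)
  exact ⟨P, K, NE, X, ε, d, hP, hK, h1, B⟩

/-- **A sign of the columns of 17 and 23.** -/
theorem exists_neg : ∃ χ : IrrCharacter Fi23,
    (charDegree (χ : Fi23 → ℂ) % 17 = 1 ∧ charDegree (χ : Fi23 → ℂ) % 23 = 22) ∨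
    (charDegree (χ : Fi23 → ℂ) % 17 = 16 ∧ charDegree (χ : Fi23 → ℂ) % 23 = 1) := by
  classical
  have := H713.Spor.Fi23.finite_fi23
  have : Fact (Nat.Prime 23) := ⟨by norm_num⟩
  obtain ⟨P, K, NE, X, ε, d, hP, hK, hK1, B⟩ := exists_pb23
  choose c hc1 hc2 hc3 using Cfsg.Agent.H856.F23.vals17
  have hc3' : ∀ χ : IrrCharacter Fi23, (17 : ℤ) ∣ (charDegree (χ : Fi23 → ℂ) : ℤ) - c χ := fun χ =>
    hc3 χ _ (by rw [Blocks.Basic.irr_one_eq_charDegree χ.2]; push_cast; rfl)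
  obtain ⟨Θ, hΘ⟩ : X.Nonempty := by rw [← Finset.card_pos, B.cX]; norm_num
  have hreg : ¬ 23 ∣ orderOf (elw y17) := by
    have h := H839.Fi23.card_y17
    rw [Nat.card_zpowers] at h
    rw [h]; norm_num
  have hrel := B.rel Θ hΘ (elw y17) hreg
  rw [hc2, Finset.sum_congr rfl (g := fun χ => ((ε χ * c χ : ℤ) : ℂ)) (fun χ _ => by rw [hc2]; push_cast; rfl),
    ← Int.cast_sum] at hrel
  have hsum : ∑ χ ∈ NE, ε χ * c χ = d * c Θ := by exact_mod_cast hrel
  by_contra hcon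
  push Not at hcon
  have hnn : ∀ χ ∈ NE, 0 ≤ ε χ * c χ := by
    intro χ hχ
    have h1 := B.cong χ hχ
    have h2 := hc3' χ
    have h3 := hcon χ
    unfold dg at h1
    rcases B.sg χ hχ with h4 | h4 <;> rcases hc1 χ with h5 | h5 | h5 <;> rw [h4, h5] <;> rw [h4] at h1 <;>
      rw [h5] at h2 <;> norm_num
    · exact h3.2 (by omega) (by omega)
    · exact h3.1 (by omega) (by omega)
  -- the character of degree 30888
  obtain ⟨κ, hκ⟩ := Cfsg.Agent.H300.PSq.FiTwentyThree.exists_30888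
  have hdκ : dg κ = 30888 := by unfold dg; rw [hκ]; rfl
  have hκm : κ ∈ NE ∨ κ ∈ X := by
    by_contra h
    have h1 := dvd_of_bot hP hK hK1 fun h1 => h ((B.mem κ).1 h1)
    rw [hdκ] at h1
    revert h1; norm_num
  have hκNE : κ ∈ NE := by
    rcases hκm with h | h
    · exact h
    · exfalso
      have h1 := B.congX κ h
      rw [hdκ] at h1
      rcases B.sd with h2 | h2 <;> rw [h2] at h1 <;> revert h1 <;> norm_num
  have hεκ : ε κ = -1 := by
    have h1 := B.cong κ hκNE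
    rw [hdκ] at h1
    rcases B.sg κ hκNE with h2 | h2
    · exfalso; rw [h2] at h1; revert h1; norm_num
    · exact h2
  have hcκ : c κ = -1 := by
    have h1 := hc3' κ
    rw [hκ] at h1
    rcases hc1 κ with h2 | h2 | h2
    · exfalso; rw [h2] at h1; revert h1; norm_num
    · exfalso; rw [h2] at h1; revert h1; norm_num
    · exact h2
  have hc0 : c (H618.LD.Blk.one Fi23) = 1 := by
    have h1 := hc2 (H618.LD.Blk.one Fi23)
    have h2 : (H618.LD.Blk.one Fi23 : Fi23 → ℂ) (elw y17) = 1 := rfl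
    rw [h2] at h1
    exact_mod_cast h1.symm
  have hne : κ ≠ H618.LD.Blk.one Fi23 := by
    rintro rfl
    have h1 := dg_one (G := Fi23)
    rw [hdκ] at h1
    norm_num at h1
  have h2 := Finset.add_sum_erase NE (fun χ => ε χ * c χ) B.one
  have h3 := Finset.add_sum_erase (NE.erase (H618.LD.Blk.one Fi23)) (fun χ => ε χ * c χ) (Finset.mem_erase.2 ⟨hne, hκNE⟩)
  have h4 : 0 ≤ ∑ χ ∈ (NE.erase (H618.LD.Blk.one Fi23)).erase κ, ε χ * c χ :=
    Finset.sum_nonneg fun χ hχ => hnn χ (Finset.mem_of_mem_erase (Finset.mem_of_mem_erase hχ))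
  rw [B.eone, hc0] at h2
  rw [hεκ, hcκ] at h3
  rw [hsum] at h2
  rcases B.sd with h5 | h5 <;> rcases hc1 Θ with h6 | h6 | h6 <;> rw [h5, h6] at h2 <;> omega

/-- **The residues of the degrees modulo 23.** -/
theorem res23 (χ : IrrCharacter Fi23) : charDegree (χ : Fi23 → ℂ) % 23 = 0 ∨ charDegree (χ : Fi23 → ℂ) % 23 = 1 ∨
    charDegree (χ : Fi23 → ℂ) % 23 = 22 ∨ charDegree (χ : Fi23 → ℂ) % 23 = 11 ∨
    charDegree (χ : Fi23 → ℂ) % 23 = 12 := by
  have := H713.Spor.Fi23.finite_fi23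
  have : Fact (Nat.Prime 23) := ⟨by norm_num⟩
  obtain ⟨P, K, NE, X, ε, d, hP, hK, hK1, B⟩ := exists_pb23
  by_cases h : χ ∈ Over P (1 : K → ℂ)
  · rcases (B.mem χ).1 h with h1 | h1
    · have h2 := B.cong χ h1
      unfold dg at h2
      rcases B.sg χ h1 with h3 | h3 <;> rw [h3] at h2 <;> omega
    · have h2 := B.congX χ h1
      unfold dg at h2
      rcases B.sd with h3 | h3 <;> rw [h3] at h2 <;> omega
  · have h2 := dvd_of_bot hP hK hK1 h
    unfold dg at h2
    omega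

end Cfsg.Agent.H343.LD
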