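import Cfsg.Agent.H856.F23.V13
import Cfsg.Agent.H856.F23.V7
import Cfsg.Agent.LThreeFi23.CentUu
import Cfsg.Agent.SmallSimple.DegreeData
import Cfsg.Agent.SmallSimple.ClassDvd
import Cfsg.Agent.Blocks.CyclicLower2

/-!
# The elements of order 7 and 13 of `CC = C(z, j)` in `Fi₂₃` (helper704, S4910 row Fi23)

`cent7`, `cent13`: the orders of the centralizers in `CC`; `conj7`, `conj13`: conjugacy in `CC`;
`theta7`, `theta13`: a character of `CC` of 3-defect zero has a value at these elements that is an integer prime to 3.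
-/

set_option autoImplicit false
set_option linter.constructorNameAsVariable false
set_option maxRecDepth 100000

namespace Cfsg.Agent.H343.LD.Theta

open Cfsg Subgroup Cfsg.Agent.Lib.PermNet Cfsg.Agent.Fischer.Fi23Hom Cfsg.Agent.LThreeFi23 Cfsg.Agent.H856.F23
open Cfsg.Agent.H838.Fi23 (SL el_mem elw_mem DD L5)
open Cfsg.Agent.Characters.Core
open Cfsg.Spor (Fi23)
open scoped ComplexConjugate

/-! ### Sylow subgroups of prime order -/

section Abs

variable {C : Type*} [Group C] [Finite C] {p : ℕ}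

theorem exists_conj_pow (hp : p.Prime) (h2 : ¬ p ^ 2 ∣ Nat.card C) {a s : C} (ha : orderOf a = p)
    (hs : orderOf s = p) : ∃ (g : C) (i : ℤ), s = g * a ^ i * g⁻¹ := by
  have : Fact p.Prime := ⟨hp⟩
  have h1 : p ∣ Nat.card C := ha ▸ orderOf_dvd_natCard a
  obtain ⟨P, hP, -⟩ := exists_syl (G := C) (p := p) (y := a) (by rw [Nat.card_zpowers, ha]) h1 h2
  obtain ⟨Q, hQ, -⟩ := exists_syl (G := C) (p := p) (y := s) (by rw [Nat.card_zpowers, hs]) h1 h2
  obtain ⟨g, hg⟩ := MulAction.exists_smul_eq C P Q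
  have hsQ : s ∈ (Q : Subgroup C) := by rw [hQ]; exact mem_zpowers s
  rw [← hg, Sylow.coe_subgroup_smul] at hsQ
  obtain ⟨x, hx, h⟩ := hsQ
  have hx' : x ∈ (P : Subgroup C) := hx
  rw [hP] at hx'
  obtain ⟨i, rfl⟩ := hx'
  exact ⟨g, i, h.symm⟩

theorem normSq_le (χ : IrrCharacter C) (x : C) :
    Complex.normSq ((χ : C → ℂ) x) ≤ Nat.card (centralizer ({x} : Set C)) := by
  classical
  have := finite_irr (G := C)
  have := Fintype.ofFinite (IrrCharacter C)
  have := Fintype.ofFinite C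
  have h := S0145.sum_irr_mul_conj x x
  rw [if_pos (IsConj.refl x)] at h
  have h1 : ((∑ χ : IrrCharacter C, Complex.normSq ((χ : C → ℂ) x) : ℝ) : ℂ) =
      (Nat.card (centralizer ({x} : Set C)) : ℂ) := by
    rw [← h]
    push_cast
    exact Finset.sum_congr rfl fun χ _ => (Complex.mul_conj _).symm
  have h2 : ∑ χ : IrrCharacter C, Complex.normSq ((χ : C → ℂ) x) =
      (Nat.card (centralizer ({x} : Set C)) : ℝ) := by exact_mod_cast h1
  rw [← h2]
  exact Finset.single_le_sum (f := fun χ : IrrCharacter C => Complex.normSq ((χ : C → ℂ) x))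
    (fun _ _ => Complex.normSq_nonneg _) (Finset.mem_univ χ)

theorem ne_one_of_order (hp : p.Prime) {a : C} (ha : orderOf a = p) : a ≠ 1 := by
  rintro rfl
  rw [orderOf_one] at ha
  exact hp.one_lt.ne ha

/-- the exponent is not divisible by `p` -/
theorem coe_ne_zero (hp : p.Prime) {a s g : C} {i : ℤ} (ha : orderOf a = p) (hs : orderOf s = p)
    (h : s = g * a ^ i * g⁻¹) : (i : ZMod p) ≠ 0 := by
  intro h0
  have h1 : a ^ i = a ^ (0 : ℤ) := by
    rw [H838.Norm.zpow_eq_iff hp (by rw [← ha]; exact pow_orderOf_eq_one a) (ne_one_of_order hp ha), h0, Int.cast_zero]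
  rw [zpow_zero] at h1
  rw [h1, mul_one, mul_inv_cancel] at h
  exact ne_one_of_order hp hs h

end Abs

/-! ### The group `CC` -/

instance finCC : Finite ↥CC := Nat.finite_of_card_ne_zero (by rw [card_CC]; norm_num)

theorem el_f_comm (l : Lt) (hl : l = .z ∨ l = .j) : el .f * el l = el l * el .f := by
  rw [← elw_one, ← elw_one]
  rcases hl with rfl | rfl <;> exact comm_words _ _ (by decide +kernel)

/-- the element of order 13 -/
noncomputable def a13 : ↥CC := ⟨elw y13, mem_CC.2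
  ⟨H839.Fi23.S3_comm_y13 z_mem3, H839.Fi23.S3_comm_y13 j_mem3⟩⟩

/-- the element of order 7 -/
noncomputable def a7 : ↥CC := ⟨elw y7, mem_CC.2
  ⟨H839.Fi23.S5_comm_y7 (el_mem (by decide)), H839.Fi23.S5_comm_y7 (el_mem (by decide))⟩⟩

/-- the normalizing element of order 6 -/
noncomputable def b7 : ↥CC := ⟨elw H839.Fi23.q7, mem_CC.2
  ⟨(H839.Fi23.S5_comm_q7 (el_mem (by decide))).symm, (H839.Fi23.S5_comm_q7 (el_mem (by decide))).symm⟩⟩

/-- the involution -/
noncomputable def f7 : ↥CC := ⟨el .f, mem_CC.2 ⟨el_f_comm _ (Or.inl rfl), el_f_comm _ (Or.inr rfl)⟩⟩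

theorem order_a13 : orderOf a13 = 13 := by
  have : Fact (Nat.Prime 13) := ⟨by norm_num⟩
  apply orderOf_eq_prime
  · exact Subtype.ext pow13
  · exact fun h => y13_ne (congrArg Subtype.val h)

theorem order_a7 : orderOf a7 = 7 := by
  have : Fact (Nat.Prime 7) := ⟨by norm_num⟩
  apply orderOf_eq_prime
  · exact Subtype.ext pow7
  · exact fun h => y7_ne (congrArg Subtype.val h)

theorem sq13 : ¬ 13 ^ 2 ∣ Nat.card ↥CC := by rw [card_CC]; norm_num

theorem sq7 : ¬ 7 ^ 2 ∣ Nat.card ↥CC := by rw [card_CC]; norm_num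

/-! ### 13 -/

theorem centralizer_a13 : centralizer ({a13} : Set ↥CC) = zpowers a13 := by
  apply le_antisymm
  · intro w hw
    rw [mem_centralizer_singleton_iff] at hw
    obtain ⟨h1, h2⟩ := mem_CC.1 w.2
    obtain ⟨i, hi⟩ := H839.Fi23.cent13core (congrArg Subtype.val hw) h1 h2
    exact ⟨i, Subtype.ext hi⟩
  · rw [zpowers_le, mem_centralizer_singleton_iff]

theorem cent_pow {C : Type*} [Group C] [Finite C] {p : ℕ} (hp : p.Prime) (h2 : ¬ p ^ 2 ∣ Nat.card C) {a s : C}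
    (ha : orderOf a = p) (hs : orderOf s = p) :
    Nat.card (centralizer ({s} : Set C)) = Nat.card (centralizer ({a} : Set C)) := by
  obtain ⟨g, i, h⟩ := exists_conj_pow hp h2 ha hs
  have : Fact p.Prime := ⟨hp⟩
  obtain ⟨P, hP, hPc⟩ := exists_syl (G := C) (p := p) (y := a) (by rw [Nat.card_zpowers, ha])
    (ha ▸ orderOf_dvd_natCard a) h2
  have h3 : IsConj (a ^ i) s := isConj_iff.2 ⟨g, h.symm⟩
  have h4 : a ^ i ≠ 1 := by
    intro h5
    rw [h5, mul_one, mul_inv_cancel] at h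
    exact ne_one_of_order hp hs h
  have h5 : a ^ i ∈ (P : Subgroup C) := by rw [hP]; exact ⟨i, rfl⟩
  have h6 : a ∈ (P : Subgroup C) := by rw [hP]; exact mem_zpowers a
  rw [← SmallSimple.ClassDvd.card_centralizer_conj h3, Blocks.CyclicOrtho.centralizer_eq P hPc h5 h4,
    Blocks.CyclicOrtho.centralizer_eq P hPc h6 (ne_one_of_order hp ha)]

theorem cent13 (s : ↥CC) (hs : orderOf s = 13) : Nat.card (centralizer ({s} : Set ↥CC)) = 13 := by
  rw [cent_pow (by norm_num) sq13 order_a13 hs, centralizer_a13, Nat.card_zpowers, order_a13]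

theorem conj13 (s s' : ↥CC) (hs : orderOf s = 13) (hs' : orderOf s' = 13) (h : IsConj (s : Fi23) s') :
    IsConj s s' := by
  have hp : Nat.Prime 13 := by norm_num
  obtain ⟨g, i, hg⟩ := exists_conj_pow hp sq13 order_a13 hs
  obtain ⟨k, j, hk⟩ := exists_conj_pow hp sq13 order_a13 hs'
  have hi := coe_ne_zero hp order_a13 hs hg
  have h1 : IsConj (a13 ^ i) s := isConj_iff.2 ⟨g, hg.symm⟩
  have h2 : IsConj (a13 ^ j) s' := isConj_iff.2 ⟨k, hk.symm⟩
  refine h1.symm.trans (IsConj.trans ?_ h2)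
  have h3 : IsConj (elw y13 ^ i) (elw y13 ^ j) := by
    have h4 : IsConj (elw y13 ^ i) (s : Fi23) := isConj_iff.2 ⟨g, by rw [hg]; rfl⟩
    have h5 : IsConj (elw y13 ^ j) (s' : Fi23) := isConj_iff.2 ⟨k, by rw [hk]; rfl⟩
    exact h4.trans (h.trans h5.symm)
  obtain ⟨n, hn⟩ := isConj_iff.1 h3
  obtain ⟨F, -, hNS⟩ := ns13
  have hnN : n ∈ normalizer ((zpowers (elw y13) : Subgroup Fi23) : Set Fi23) := by
    have hy1 : elw y13 ^ j ≠ 1 := by
      intro h0
      have h7 : elw y13 ^ i = 1 := by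
        have h8 : n * elw y13 ^ i * n⁻¹ = 1 := hn.trans h0
        rw [mul_inv_eq_one] at h8
        exact mul_eq_left.1 h8
      apply hi
      rw [← zpow_zero (elw y13), H838.Norm.zpow_eq_iff hp pow13 y13_ne, Int.cast_zero] at h7
      exact h7
    refine Blocks.CyclicLower2.mem_normalizer_of_conj_mem hp H839.Fi23.card_y13 (y := elw y13 ^ j) ⟨j, rfl⟩ hy1 n ?_
    have h8 : n⁻¹ * elw y13 ^ j * n = elw y13 ^ i := by rw [← hn]; group
    rw [h8]
    exact ⟨i, rfl⟩
  obtain ⟨f, hf, x, hx, rfl⟩ := hNS.exists_mul hnN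
  have hxy : x * elw y13 = elw y13 * x := (H839.Fi23.S3_comm_y13 hx).symm
  have hfi : f * elw y13 ^ i * f⁻¹ = elw y13 ^ j := by
    rw [← hn]
    have h6 : x * elw y13 ^ i = elw y13 ^ i * x := ((show Commute x (elw y13) from hxy).zpow_right i).eq
    calc f * elw y13 ^ i * f⁻¹ = f * (elw y13 ^ i * x) * x⁻¹ * f⁻¹ := by group
      _ = f * (x * elw y13 ^ i) * x⁻¹ * f⁻¹ := by rw [h6]
      _ = _ := by group
  have hfC : f ∈ CC := mem_CC.2 ⟨hNS.comm f hf _ z_mem3, hNS.comm f hf _ j_mem3⟩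
  exact isConj_iff.2 ⟨⟨f, hfC⟩, Subtype.ext hfi⟩

/-! ### 7 -/

theorem order_f7 : orderOf f7 = 2 := by
  have : Fact (Nat.Prime 2) := ⟨Nat.prime_two⟩
  apply orderOf_eq_prime
  · rw [pow_two]
    exact Subtype.ext (el_sq .f)
  · intro h
    have h1 : el .f = 1 := congrArg Subtype.val h
    have h2 := f5_f
    rw [h1] at h2
    have h3 : (Equiv.swap 3 4 : Equiv.Perm (Fin 5)) = 1 := f5_inj (by rw [h2, map_one])
    exact absurd h3 (by decide)

theorem a7_f7 : a7 * f7 = f7 * a7 :=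
  Subtype.ext (H839.Fi23.S5_comm_y7 (x := el .f) (el_mem (by decide)))

theorem cent_S3 : ∀ σ : Equiv.Perm (Fin 5), σ * Equiv.swap 0 1 = Equiv.swap 0 1 * σ →
    σ * Equiv.swap 1 2 = Equiv.swap 1 2 * σ → σ = 1 ∨ σ = Equiv.swap 3 4 := by decide +kernel

theorem centralizer_a7 : centralizer ({a7} : Set ↥CC) = zpowers a7 ⊔ zpowers f7 := by
  apply le_antisymm
  · intro w hw
    rw [mem_centralizer_singleton_iff] at hw
    obtain ⟨h1, h2⟩ := mem_CC.1 w.2
    obtain ⟨i, x, hx, hwx⟩ := H839.Fi23.cent7 (congrArg Subtype.val hw)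
    have hxw : x = (elw y7 ^ i)⁻¹ * w := by rw [hwx]; group
    have hxC : x ∈ CC := by
      rw [hxw]
      exact mul_mem (inv_mem (zpow_mem a7.2 i)) w.2
    rw [← f5_range] at hx
    obtain ⟨σ, rfl⟩ := hx
    obtain ⟨h3, h4⟩ := mem_CC.1 hxC
    rw [← f5_z, ← map_mul, ← map_mul] at h3
    rw [← f5_j, ← map_mul, ← map_mul] at h4
    have hw' : w = a7 ^ i * ⟨f5 σ, hxC⟩ := Subtype.ext hwx
    rw [hw']
    refine mul_mem_sup (zpow_mem (mem_zpowers a7) i) ?_
    rcases cent_S3 σ (f5_inj h3) (f5_inj h4) with rfl | rfl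
    · have : (⟨f5 1, hxC⟩ : ↥CC) = 1 := Subtype.ext (map_one f5)
      rw [this]
      exact one_mem _
    · have : (⟨f5 (Equiv.swap 3 4), hxC⟩ : ↥CC) = f7 := Subtype.ext f5_f
      rw [this]
      exact mem_zpowers _
  · rw [sup_le_iff, zpowers_le, zpowers_le, mem_centralizer_singleton_iff, mem_centralizer_singleton_iff]
    exact ⟨rfl, a7_f7.symm⟩

theorem cent7 (s : ↥CC) (hs : orderOf s = 7) : Nat.card (centralizer ({s} : Set ↥CC)) = 14 := by
  rw [cent_pow (by norm_num) sq7 order_a7 hs, centralizer_a7, H839.Count.card_sup_of_comm, Nat.card_zpowers,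
    Nat.card_zpowers, order_a7, order_f7]
  · rintro _ ⟨i, rfl⟩ _ ⟨j, rfl⟩
    exact (((show Commute a7 f7 from a7_f7).zpow_left i).zpow_right j).eq
  · apply Subgroup.inf_eq_bot_of_coprime
    rw [Nat.card_zpowers, Nat.card_zpowers, order_a7, order_f7]
    norm_num

theorem b7_conj : b7 * a7 * b7⁻¹ = a7 ^ 3 := Subtype.ext H839.Fi23.q7_conj

theorem conj_pow7 {i : ℤ} (hi : (i : ZMod 7) ≠ 0) : IsConj a7 (a7 ^ i) := by
  obtain ⟨k, -, hk⟩ := H839.Fi23.three_seven _ hi
  refine isConj_iff.2 ⟨b7 ^ k, ?_⟩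
  have h := H838.Norm.conj_pow_zpow b7_conj k 1
  rw [zpow_one, mul_one] at h
  rw [h, H838.Norm.zpow_eq_iff (by norm_num : Nat.Prime 7) (by rw [← order_a7]; exact pow_orderOf_eq_one a7)
    (ne_one_of_order (by norm_num) order_a7)]
  push_cast
  exact_mod_cast hk

theorem conj7 (s s' : ↥CC) (hs : orderOf s = 7) (hs' : orderOf s' = 7) : IsConj s s' := by
  have hp : Nat.Prime 7 := by norm_num
  obtain ⟨g, i, hg⟩ := exists_conj_pow hp sq7 order_a7 hs
  obtain ⟨k, j, hk⟩ := exists_conj_pow hp sq7 order_a7 hs'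
  have h1 : IsConj (a7 ^ i) s := isConj_iff.2 ⟨g, hg.symm⟩
  have h2 : IsConj (a7 ^ j) s' := isConj_iff.2 ⟨k, hk.symm⟩
  exact h1.symm.trans ((conj_pow7 (coe_ne_zero hp order_a7 hs hg)).symm.trans
    ((conj_pow7 (coe_ne_zero hp order_a7 hs' hk)).trans h2))

/-! ### The degree -/

theorem fac3 : (Nat.card ↥CC).factorization 3 = 9 := by
  rw [card_CC, show 4585351680 = 3 ^ 9 * 232960 by norm_num, Nat.factorization_mul (by norm_num) (by norm_num),
    Nat.factorization_pow]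
  simp only [Finsupp.add_apply, Finsupp.smul_apply, smul_eq_mul]
  rw [Nat.Prime.factorization_self Nat.prime_three, Nat.factorization_eq_zero_of_not_dvd (by norm_num)]

theorem deg (t : IrrCharacter ↥CC)
    (ht : (charDegree (t : ↥CC → ℂ)).factorization 3 = (Nat.card ↥CC).factorization 3) :
    charDegree (t : ↥CC → ℂ) = 19683 ∨ charDegree (t : ↥CC → ℂ) = 39366 := by
  rw [fac3] at ht
  set d := charDegree (t : ↥CC → ℂ) with hd
  have h1 : 3 ^ 9 ∣ d := by rw [← ht]; exact Nat.ordProj_dvd d 3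
  have h2 : d ^ 2 ≤ 4585351680 := by
    have h3 := normSq_le t 1
    rw [Blocks.Knorr.charDegree_eq t.2, ← hd] at h3
    have h4 : Complex.normSq (d : ℂ) = (d : ℝ) ^ 2 := by
      rw [show (d : ℂ) = ((d : ℝ) : ℂ) by push_cast; rfl, Complex.normSq_ofReal, sq]
    rw [h4] at h3
    have h5 : d ^ 2 ≤ Nat.card (centralizer ({1} : Set ↥CC)) := by exact_mod_cast h3
    have h6 : Nat.card (centralizer ({1} : Set ↥CC)) ≤ Nat.card ↥CC :=
      Nat.card_le_card_of_injective _ Subtype.val_injective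
    rw [card_CC] at h6
    exact h5.trans h6
  have h3 : d ≠ 0 := by
    intro h0
    rw [h0, Nat.factorization_zero] at ht
    simp at ht
  obtain ⟨r, hr⟩ := h1
  have h4 : r ≤ 3 := by
    by_contra h5
    push Not at h5
    rw [hr] at h2
    nlinarith
  interval_cases r
  · omega
  · left; rw [hr]; norm_num
  · right; rw [hr]; norm_num
  · exfalso
    have h6 : d = 3 ^ 10 := by rw [hr]; norm_num
    rw [h6, Nat.Prime.factorization_pow Nat.prime_three] at ht
    simp at ht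

theorem theta7 (t : IrrCharacter ↥CC)
    (ht : (charDegree (t : ↥CC → ℂ)).factorization 3 = (Nat.card ↥CC).factorization 3) (s : ↥CC)
    (hs : orderOf s = 7) : ∃ v : ℤ, (t : ↥CC → ℂ) s = v ∧ ¬ (3 : ℤ) ∣ v := by
  have hp : Nat.Prime 7 := by norm_num
  have hord : ∀ x : ↥CC, x ∈ zpowers s → x ≠ 1 → orderOf x = 7 := by
    intro x hx hx1
    have : Fact (Nat.Prime 7) := ⟨hp⟩
    obtain ⟨i, rfl⟩ := hx
    apply orderOf_eq_prime _ hx1
    change (s ^ i) ^ 7 = 1
    rw [← zpow_natCast, ← zpow_mul, mul_comm, zpow_mul, zpow_natCast]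
    rw [← hs, pow_orderOf_eq_one, one_zpow]
  have hval : ∀ x : ↥CC, x ∈ zpowers s → x ≠ 1 → (t : ↥CC → ℂ) x = (t : ↥CC → ℂ) s := by
    intro x hx hx1
    obtain ⟨g, hg⟩ := isConj_iff.1 (conj7 s x hs (hord x hx hx1))
    rw [← hg]
    exact isIrr_isClassFunction t.2 s g
  obtain ⟨k, hk⟩ : ∃ k : ℤ, (t : ↥CC → ℂ) s = k := by
    refine Characters.GaloisBasic.exists_int_of_rat (isIrr_isCharacter t.2) s ?_
    rw [Characters.GaloisBasic.exists_rat_iff (isIrr_isCharacter t.2)]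
    intro m hm
    apply hval _ ⟨m, zpow_natCast s m⟩
    intro h1
    have h2 : orderOf s ∣ m := orderOf_dvd_of_pow_eq_one h1
    rw [hs] at h2
    have h3 : 7 ∣ Nat.card ↥CC := by rw [card_CC]; norm_num
    have h4 := Nat.dvd_gcd h2 h3
    rw [hm] at h4
    exact absurd h4 (by norm_num)
  obtain ⟨m, hm⟩ := SmallSimple.TheoremBCor.degree_nonexc (p := 7) (P := zpowers s) (ε := k)
    (by rw [Nat.card_zpowers, hs]) (isIrr_isCharacter t.2) (fun x hx hx1 => by rw [hval x hx hx1, hk])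
  rw [Blocks.Knorr.charDegree_eq t.2] at hm
  have h1 : (charDegree (t : ↥CC → ℂ) : ℤ) = k + 7 * (m - k) := by exact_mod_cast hm
  have h2 : k ^ 2 ≤ 14 := by
    have h3 := normSq_le t s
    rw [hk, cent7 s hs] at h3
    have h4 : Complex.normSq (k : ℂ) = (k : ℝ) ^ 2 := by
      rw [show (k : ℂ) = ((k : ℝ) : ℂ) by push_cast; rfl, Complex.normSq_ofReal, sq]
    rw [h4] at h3
    exact_mod_cast h3
  refine ⟨k, hk, ?_⟩
  have h3 : -4 < k := by nlinarith
  have h4 : k < 4 := by nlinarith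
  rcases deg t ht with h | h <;> rw [h] at h1 <;> omega

theorem relIndex13 (P : Sylow 13 ↥CC) (hP : Nat.card P = 13)
    (hC : Nat.card (centralizer ((P : Subgroup ↥CC) : Set ↥CC)) = 13) :
    (centralizer ((P : Subgroup ↥CC) : Set ↥CC)).relIndex (normalizer ((P : Subgroup ↥CC) : Set ↥CC)) = 6 := by
  obtain ⟨e, n, he, h1, h2, h3⟩ := H839.Count.card_normalizer (p := 13) (c := 13) (by norm_num) hP sq13 hC
  have h4 : n % 13 = 1 := h2
  rw [card_CC] at h3
  have h5 : e ≤ 12 := Nat.le_of_dvd (by norm_num) he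
  have h6 : e = 6 := by
    interval_cases e <;> omega
  rw [h6] at h1
  have : Fact (Nat.Prime 13) := ⟨by norm_num⟩
  exact relIndex_of_card hC h1 (by norm_num) (by norm_num)

theorem theta13 (t : IrrCharacter ↥CC)
    (ht : (charDegree (t : ↥CC → ℂ)).factorization 3 = (Nat.card ↥CC).factorization 3) (s : ↥CC)
    (hs : orderOf s = 13) : ∃ v : ℤ, (t : ↥CC → ℂ) s = v ∧ ¬ (3 : ℤ) ∣ v := by
  have : Fact (Nat.Prime 13) := ⟨by norm_num⟩
  obtain ⟨P, hPs, hP⟩ := exists_syl (G := ↥CC) (p := 13) (y := s) (by rw [Nat.card_zpowers, hs])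
    (by rw [card_CC]; norm_num) sq13
  have hsP : s ∈ P := by
    change s ∈ (P : Subgroup ↥CC)
    rw [hPs]; exact mem_zpowers s
  have hs1 : s ≠ 1 := ne_one_of_order (by norm_num : Nat.Prime 13) hs
  have hCc : Nat.card (centralizer ((P : Subgroup ↥CC) : Set ↥CC)) = 13 := by
    rw [← Blocks.CyclicOrtho.centralizer_eq P hP hsP hs1]
    exact cent13 s hs
  have hC : centralizer (P : Set ↥CC) = (P : Subgroup ↥CC) := by
    symm
    apply eq_of_le_of_card_ge
    · intro x hx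
      rw [mem_centralizer_iff]
      intro y hy
      have hy' : y ∈ (P : Subgroup ↥CC) := hy
      rw [hPs] at hx hy'
      obtain ⟨i, rfl⟩ := mem_zpowers_iff.1 hx
      obtain ⟨j, rfl⟩ := mem_zpowers_iff.1 hy'
      exact (((Commute.refl s).zpow_left j).zpow_right i).eq
    · exact le_of_eq (hCc.trans hP.symm)
  obtain ⟨NE, X, ε, d, S, -, -, -, hε, hd, -, hNE, hX, -, -, hout⟩ :=
    SmallSimple.TheoremBCor.theoremB_selfCent 13 (by norm_num) P hP hC 6 2 (relIndex13 P hP hCc) (by norm_num)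
  by_cases h1 : t ∈ NE
  · refine ⟨ε t, hNE t h1 s hsP hs1, ?_⟩
    rcases hε t h1 with h | h <;> rw [h] <;> norm_num
  · exfalso
    by_cases h2 : t ∈ X
    · obtain ⟨h3, h4, h5⟩ := hX t h2
      have h6 := SmallSimple.DegreeData.exc_modEq (P := (P : Subgroup ↥CC)) hP hd h3 h4 h5
      have h7 := Int.modEq_iff_dvd.1 h6
      rcases deg t ht with h | h <;> rcases hd with h8 | h8 <;> rw [h, h8] at h7 <;> norm_num at h7 <;> omega
    · obtain ⟨-, h3⟩ := hout t h1 h2
      rcases deg t ht with h | h <;> rw [h] at h3 <;> norm_num at h3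

end Cfsg.Agent.H343.LD.Theta
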