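import Cfsg.Agent.H343.LD.Col
import Cfsg.Agent.H343.LD.Theta
import Cfsg.Agent.H343.LD.Neg
import Cfsg.Agent.H678.PV.RowFiTT
import Cfsg.Agent.H935.Fi23.Deg

/-!
# `Fi₂₃` has an irreducible character of degree `207793431 = 3¹² · 17 · 23` (helper343)

The column of `u ∈ 3A`, `C(u) = ⟨u⟩ × PΩ₇(3)`, and the Steinberg character: three characters of degrees divisible by
`3¹²` and prime to `7 · 13`, the largest degree is the sum of the two others.
-/

set_option autoImplicit false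
set_option maxRecDepth 100000

namespace Cfsg.Agent.H343.LD.RowP

open Cfsg Subgroup Cfsg.Agent.Characters Cfsg.Agent.Characters.Core Cfsg.Agent.SmallSimple.ThetaSetup
open Cfsg.Agent.LThreeFi23 Cfsg.Agent.H343.LD Cfsg.Agent.H343.LD.Theta
open Cfsg.Spor (Fi23)
open scoped ComplexConjugate

theorem uu_inv : el .z * uu * (el .z)⁻¹ = uu ^ 2 := by
  have hz := el_sq .z
  have hj := el_sq .j
  have h0 : uu ^ 3 = 1 := by
    have h := pow_orderOf_eq_one uu
    rwa [order_uu] at h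
  have h1 : uu ^ 2 = uu⁻¹ := by
    rw [eq_inv_iff_mul_eq_one, ← pow_succ]
    exact h0
  have h2 : (el .z)⁻¹ = el .z := inv_eq_of_mul_eq_one_left hz
  have h3 : (el .j)⁻¹ = el .j := inv_eq_of_mul_eq_one_left hj
  rw [h1]
  unfold uu
  rw [mul_inv_rev, h2, h3]
  calc el .z * (el .z * el .j) * el .z = (el .z * el .z) * el .j * el .z := by group
    _ = _ := by rw [hz, one_mul]

theorem loc_uu : Loc 3 uu CC where
  ord := order_uu
  le := CC_le
  dec := fun c hc => exists_form hc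
  nmem := fun i hi => by
    have h1 : uu ^ i ∈ zpowers uu ⊓ CC := ⟨⟨i, by simp⟩, hi⟩
    rw [inf_eq] at h1
    exact mem_bot.1 h1
  real := fun i hi => by
    have h3 : i % 3 = 1 ∨ i % 3 = 2 := by
      have h4 : ¬ 3 ∣ i := by
        intro h
        have := Nat.Coprime.eq_one_of_dvd (Nat.Coprime.symm hi) h
        omega
      omega
    have hpow : uu ^ i = uu ^ (i % 3) := by
      have h5 := pow_mod_orderOf uu i
      rw [order_uu] at h5
      exact h5.symm
    rw [hpow]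
    rcases h3 with h3 | h3
    · refine ⟨1, ?_, fun k _ => by simp⟩
      rw [h3]
      simp
    · refine ⟨el .z, ?_, fun k hk => (mem_CC.1 hk).1.symm⟩
      rw [h3]
      exact uu_inv

/-- nonvanishing and the 3-part, from a residue of the central character -/
theorem nonvan {χ : IrrCharacter Fi23} {g : Fi23} {S : ℤ} (hS : ¬ (3 : ℤ) ∣ S)
    (h : ∃ (m : ℕ) (z : ℂ), ¬ 3 ∣ m ∧ IsIntegral ℤ z ∧ (m : ℂ) * (om (χ : Fi23 → ℂ) g - S) = (3 : ℕ) * z) :
    (χ : Fi23 → ℂ) g ≠ 0 ∧ (3 ^ 12 ∣ (centralizer ({g} : Set Fi23)).index → 3 ^ 12 ∣ charDegree (χ : Fi23 → ℂ)) := by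
  have hfin := H713.Spor.Fi23.finite_fi23
  obtain ⟨m, z, hm, hz, h⟩ := h
  have h3 : Prime (3 : ℤ) := Int.prime_three
  have hm' : ¬ (3 : ℤ) ∣ (m : ℤ) := by
    intro hd
    exact hm (by exact_mod_cast hd)
  refine ⟨fun h0 => ?_, fun hI => ?_⟩
  · have h1 : om (χ : Fi23 → ℂ) g = 0 := by
      unfold om
      rw [h0]
      simp
    rw [h1] at h
    have h2 := H856.F23.dvd_of_integral (q := 3) (by norm_num) (a := m * S) (b := 0) ⟨-z, hz.neg, by
      push_cast
      linear_combination -h⟩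
    rw [sub_zero] at h2
    rcases h3.dvd_or_dvd h2 with h4 | h4
    · exact hm' h4
    · exact hS h4
  · by_contra hcon
    have hdeg := Blocks.Knorr.charDegree_eq χ.2
    set d := charDegree (χ : Fi23 → ℂ) with hd
    have hd0 : d ≠ 0 := by
      intro h0
      rw [h0] at hdeg
      exact isIrr_apply_one_ne_zero χ.2 (by rw [hdeg]; simp)
    obtain ⟨v, d', hd', hdd⟩ := Nat.exists_eq_pow_mul_and_not_dvd hd0 3 (by norm_num)
    have hv : v ≤ 11 := by
      by_contra hv
      apply hcon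
      rw [hdd]
      exact Dvd.dvd.mul_right (pow_dvd_pow 3 (by omega)) _
    obtain ⟨I, hI⟩ := hI
    have hd'0 : (d' : ℂ) ≠ 0 := by
      have : d' ≠ 0 := by rintro rfl; exact hd' (dvd_zero 3)
      exact_mod_cast this
    have h1 : (d' : ℂ) * om (χ : Fi23 → ℂ) g = 3 * ((3 : ℂ) ^ (11 - v) * I * (χ : Fi23 → ℂ) g) := by
      unfold om
      rw [hI, hdeg, hdd]
      push_cast
      have h2 : (531441 : ℂ) = 3 ^ v * (3 * 3 ^ (11 - v)) := by
        rw [← pow_succ', ← pow_add, show v + (11 - v + 1) = 12 by omega]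
        norm_num
      rw [h2]
      have h3 : (3 : ℂ) ^ v ≠ 0 := pow_ne_zero _ (by norm_num)
      field_simp
    have hint : IsIntegral ℤ ((3 : ℂ) ^ (11 - v) * I * (χ : Fi23 → ℂ) g) :=
      ((((isIntegral_natCast (R := ℤ) (B := ℂ) 3).pow (11 - v))).mul (isIntegral_natCast I)).mul
        (GaloisBasic.isIntegral_apply (isIrr_isCharacter χ.2) g)
    have h2 := H856.F23.dvd_of_integral (q := 3) (by norm_num) (a := m * d' * S) (b := 0)
      ⟨m * ((3 : ℂ) ^ (11 - v) * I * (χ : Fi23 → ℂ) g) - d' * z,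
        ((isIntegral_natCast m).mul hint).sub ((isIntegral_natCast d').mul hz), by
        push_cast
        linear_combination (m : ℂ) * h1 - (d' : ℂ) * h⟩
    rw [sub_zero] at h2
    rcases h3.dvd_or_dvd h2 with h4 | h4
    · rcases h3.dvd_or_dvd h4 with h5 | h5
      · exact hm' h5
      · exact hd' (by exact_mod_cast h5)
    · exact hS h4

universe u

/-- the sum over the class in `K` -/
theorem sum_cls {G : Type u} [Group G] {K : Subgroup G} [Fintype ↥K] (θ : IrrCharacter ↥K) {a : ↥K}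
    (ha : ∀ s : ↥K, IsConj (a : G) s → IsConj a s) :
    ∑ s ∈ cls K (a : G), (θ : ↥K → ℂ) s = ((centralizer ({a} : Set ↥K)).index : ℂ) * (θ : ↥K → ℂ) a := by
  classical
  have h1 : cls K (a : G) = Finset.univ.filter (IsConj a) := by
    ext s
    rw [mem_cls, Finset.mem_filter]
    refine ⟨fun h => ⟨Finset.mem_univ _, ha s h⟩, fun h => ?_⟩
    obtain ⟨c, hc⟩ := isConj_iff.1 h.2
    exact isConj_iff.2 ⟨c, congrArg Subtype.val hc⟩
  have h2 : ∀ s ∈ Finset.univ.filter (IsConj a), (θ : ↥K → ℂ) s = (θ : ↥K → ℂ) a := by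
    intro s hs
    obtain ⟨c, hc⟩ := isConj_iff.1 (Finset.mem_filter.1 hs).2
    rw [← hc, isIrr_isClassFunction θ.2]
  rw [h1, Finset.sum_congr rfl h2, Finset.sum_const, nsmul_eq_mul]
  congr 2
  convert ClassMul.card_filter_isConj a

theorem index_of {n q : ℕ} {a : ↥CC} (h : Nat.card (centralizer ({a} : Set ↥CC)) = n) (hn : 0 < n)
    (hq : 4585351680 = n * q) : (centralizer ({a} : Set ↥CC)).index = q := by
  have h1 := (centralizer ({a} : Set ↥CC)).card_mul_index
  rw [h, card_CC, hq] at h1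
  exact Nat.eq_of_mul_eq_mul_left hn h1

theorem orderOf_conj {a s : ↥CC} (h : IsConj (a : Fi23) s) : orderOf s = orderOf a := by
  obtain ⟨c, hc⟩ := isConj_iff.1 h
  rw [← Subgroup.orderOf_coe, ← Subgroup.orderOf_coe, ← hc]
  have : c * (a : Fi23) * c⁻¹ = MulAut.conj c (a : Fi23) := rfl
  rw [this, MulEquiv.orderOf_eq]

/-- the residue at the elements of order 7 and 13 -/
theorem res_of [Fintype ↥CC] (θ : IrrCharacter ↥CC)
    (ht : (charDegree (θ : ↥CC → ℂ)).factorization 3 = (Nat.card ↥CC).factorization 3) {a : ↥CC} {q : ℕ}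
    (ha : ∀ s : ↥CC, IsConj (a : Fi23) s → IsConj a s) (hi : (centralizer ({a} : Set ↥CC)).index = 39366 * q)
    (hq : ¬ 3 ∣ q) (hv : ∃ v : ℤ, (θ : ↥CC → ℂ) a = v ∧ ¬ (3 : ℤ) ∣ v) :
    ∃ S : ℤ, ¬ (3 : ℤ) ∣ S ∧ (∑ s ∈ cls CC (a : Fi23), (θ : ↥CC → ℂ) s) / (θ : ↥CC → ℂ) 1 = S := by
  obtain ⟨v, hv, hv3⟩ := hv
  have h3 : Prime (3 : ℤ) := Int.prime_three
  rw [sum_cls θ ha, hi, hv, Blocks.Knorr.charDegree_eq θ.2]
  rcases deg θ ht with h | h
  · refine ⟨2 * q * v, ?_, ?_⟩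
    · intro hd
      rcases h3.dvd_or_dvd hd with h4 | h4
      · rcases h3.dvd_or_dvd h4 with h5 | h5
        · omega
        · exact hq (by exact_mod_cast h5)
      · exact hv3 h4
    · rw [h]
      push_cast
      ring
  · refine ⟨q * v, ?_, ?_⟩
    · intro hd
      rcases h3.dvd_or_dvd hd with h4 | h4
      · exact hq (by exact_mod_cast h4)
      · exact hv3 h4
    · rw [h]
      push_cast
      ring

/-! ### The elements of order 7 and 13 -/

theorem index7 : (centralizer ({((a7 : ↥CC) : Fi23)} : Set Fi23)).index = 4868417230110720 := by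
  have h := H856.F23.card_C7
  rw [zpowers_eq_closure, centralizer_closure] at h
  have h1 := (centralizer ({elw y7} : Set Fi23)).card_mul_index
  rw [h, card_G] at h1
  show (centralizer ({elw y7} : Set Fi23)).index = _
  omega

theorem index13 : (centralizer ({((a13 : ↥CC) : Fi23)} : Set Fi23)).index = 52429108631961600 := by
  have h := H856.F23.card_C13
  rw [zpowers_eq_closure, centralizer_closure] at h
  have h1 := (centralizer ({elw y13} : Set Fi23)).card_mul_index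
  rw [h, card_G] at h1
  show (centralizer ({elw y13} : Set Fi23)).index = _
  omega

/-- characters of defect zero for an exact prime vanish -/
theorem not_dvd_of {q : ℕ} (hq : q.Prime) (h1 : (4089470473293004800 : ℕ).factorization q = 1) (χ : IrrCharacter Fi23)
    {g : Fi23} (hg : orderOf g = q) (h : (χ : Fi23 → ℂ) g ≠ 0) : ¬ q ∣ charDegree (χ : Fi23 → ℂ) := by
  have hfin := H713.Spor.Fi23.finite_fi23
  intro hd
  apply h
  refine dz_vanish hq χ ?_ (by rw [hg])
  rw [card_G, h1]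
  have hd0 : charDegree (χ : Fi23 → ℂ) ≠ 0 := by
    have hdeg := Blocks.Knorr.charDegree_eq χ.2
    intro h0
    rw [h0] at hdeg
    exact isIrr_apply_one_ne_zero χ.2 (by rw [hdeg]; simp)
  have h2 : 0 < (charDegree (χ : Fi23 → ℂ)).factorization q := hq.factorization_pos_of_dvd hd0 hd
  have h3 : (charDegree (χ : Fi23 → ℂ)).factorization q ≤ (4089470473293004800 : ℕ).factorization q := by
    have h4 := Blocks.Knorr.charDegree_dvd χ.2
    rw [card_G] at h4
    exact (Nat.factorization_le_iff_dvd hd0 (by norm_num)).2 h4 q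
  omega

theorem fac7 : (4089470473293004800 : ℕ).factorization 7 = 1 := by
  rw [show 4089470473293004800 = 7 * 584210067613286400 by norm_num, Nat.factorization_mul (by norm_num) (by norm_num),
    Finsupp.add_apply, Nat.Prime.factorization_self (by norm_num), Nat.factorization_eq_zero_of_not_dvd (by norm_num)]

theorem fac13 : (4089470473293004800 : ℕ).factorization 13 = 1 := by
  rw [show 4089470473293004800 = 13 * 314574651791769600 by norm_num, Nat.factorization_mul (by norm_num) (by norm_num),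
    Finsupp.add_apply, Nat.Prime.factorization_self (by norm_num), Nat.factorization_eq_zero_of_not_dvd (by norm_num)]

/-! ### The sieve -/

/-- the conditions on the cofactor -/
def okm (m : ℕ) : Bool :=
  Nat.beq (4089470473293004800 % (531441 * m)) 0 && (Cfsg.Agent.H935.Fi23.rs (531441 * m) &&
    ([0, 1, 22, 11, 12].elem (531441 * m % 23) && (!(Nat.beq (m % 7) 0) && !(Nat.beq (m % 13) 0))))

def LM : List ℕ := [115, 391, 506, 544, 782, 935, 2112, 3400, 3795]

theorem chk : (List.range 3806).all (fun m => !(okm m) || LM.elem m) = true := by decide +kernel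

theorem triple : ∀ a ∈ LM, ∀ b ∈ LM, ∀ c ∈ LM, a = b + c → a = 391 ∨ b = 391 ∨ c = 391 := by decide +kernel

theorem exists_m (χ : IrrCharacter Fi23) (h3 : 3 ^ 12 ∣ charDegree (χ : Fi23 → ℂ)) (h7 : ¬ 7 ∣ charDegree (χ : Fi23 → ℂ))
    (h13 : ¬ 13 ∣ charDegree (χ : Fi23 → ℂ)) : ∃ m ∈ LM, charDegree (χ : Fi23 → ℂ) = 531441 * m := by
  have hfin := H713.Spor.Fi23.finite_fi23
  obtain ⟨m, hm⟩ := h3
  rw [show (3 : ℕ) ^ 12 = 531441 by norm_num] at hm
  have h1 := Blocks.Knorr.charDegree_dvd χ.2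
  rw [card_G] at h1
  have h2 : charDegree (χ : Fi23 → ℂ) ^ 2 ≤ 4089470473293004800 := by
    have h3 := normSq_le χ 1
    rw [Blocks.Knorr.charDegree_eq χ.2] at h3
    have h4 : Complex.normSq ((charDegree (χ : Fi23 → ℂ) : ℕ) : ℂ) = ((charDegree (χ : Fi23 → ℂ) : ℕ) : ℝ) ^ 2 := by
      rw [show ((charDegree (χ : Fi23 → ℂ) : ℕ) : ℂ) = (((charDegree (χ : Fi23 → ℂ) : ℕ) : ℝ) : ℂ) by push_cast; rfl,
        Complex.normSq_ofReal, sq]
    rw [h4] at h3
    have h5 : charDegree (χ : Fi23 → ℂ) ^ 2 ≤ Nat.card (centralizer ({1} : Set Fi23)) := by exact_mod_cast h3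
    have h6 : Nat.card (centralizer ({1} : Set Fi23)) ≤ Nat.card Fi23 :=
      Nat.card_le_card_of_injective _ Subtype.val_injective
    rw [card_G] at h6
    exact h5.trans h6
  have hr := Cfsg.Agent.H935.Fi23.rs_of χ
  have h23 := res23 χ
  rw [hm] at h1 h2 h7 h13 hr h23
  refine ⟨m, ?_, hm⟩
  have hlt : m < 3806 := by
    by_contra hcon
    push Not at hcon
    have : (531441 * 3806) ^ 2 ≤ (531441 * m) ^ 2 := Nat.pow_le_pow_left (by omega) 2
    norm_num at this
    omega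
  have h4 := List.all_eq_true.1 chk m (List.mem_range.2 hlt)
  rw [Bool.or_eq_true, Bool.not_eq_true'] at h4
  rcases h4 with h4 | h4
  · exfalso
    rw [← Bool.not_eq_true] at h4
    apply h4
    unfold okm
    simp only [Bool.and_eq_true, Bool.not_eq_true']
    refine ⟨by rw [Nat.beq_eq]; exact Nat.mod_eq_zero_of_dvd h1, hr, ?_, ?_, ?_⟩
    · rcases h23 with h | h | h | h | h <;> rw [h] <;> decide
    · rw [← Bool.not_eq_true, Nat.beq_eq]
      intro h
      exact h7 (Dvd.dvd.mul_left (Nat.dvd_of_mod_eq_zero h) _)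
    · rw [← Bool.not_eq_true, Nat.beq_eq]
      intro h
      exact h13 (Dvd.dvd.mul_left (Nat.dvd_of_mod_eq_zero h) _)
  · exact List.elem_iff.1 h4

/-! ### The degree -/

/-- **an irreducible character of degree `3¹² · 17 · 23`** -/
theorem exists_P : ∃ χ : IrrCharacter Fi23, charDegree (χ : Fi23 → ℂ) = 207793431 := by
  classical
  have hfin := H713.Spor.Fi23.finite_fi23
  have := Fintype.ofFinite ↥CC
  have : Finite (IrrCharacter Fi23) := finite_irr
  have := Fintype.ofFinite (IrrCharacter Fi23)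
  obtain ⟨θ, hθ⟩ := H678.PV.FiTT.hasDZ_CC
  obtain ⟨w, -, hw2, hw1, hw3⟩ := loc_uu.col Nat.prime_three θ hθ
  have hd1 := hw1 1 (by rw [orderOf_one]; norm_num)
  -- the values of `w`
  have hle : ∀ χ, (w χ) ^ 2 ≤ 3 := fun χ => by
    have h := Finset.single_le_sum (f := fun χ => (w χ) ^ 2) (fun χ _ => sq_nonneg _) (Finset.mem_univ χ)
    rw [hw2] at h
    exact h
  have hpm : ∀ χ, w χ ≠ 0 → w χ = 1 ∨ w χ = -1 := fun χ h => by
    have h1 := hle χ
    have h2 : w χ ≤ 1 := by nlinarith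
    have h3 : -1 ≤ w χ := by nlinarith
    omega
  have hcard : (Finset.univ.filter fun χ => w χ ≠ 0).card = 3 := by
    have h1 : ∑ χ, (w χ) ^ 2 = ∑ χ ∈ Finset.univ.filter fun χ => w χ ≠ 0, 1 := by
      rw [Finset.sum_filter]
      refine Finset.sum_congr rfl fun χ _ => ?_
      split_ifs with h
      · rcases hpm χ h with h | h <;> rw [h] <;> norm_num
      · rw [not_not] at h
        rw [h]
        norm_num
    rw [hw2, Finset.sum_const, nsmul_eq_mul, mul_one] at h1
    exact_mod_cast h1.symm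
  obtain ⟨χ₁, χ₂, χ₃, h12, h13, h23, hS⟩ := Finset.card_eq_three.1 hcard
  have hmem : ∀ χ, w χ ≠ 0 ↔ χ = χ₁ ∨ χ = χ₂ ∨ χ = χ₃ := fun χ => by
    have h : χ ∈ Finset.univ.filter (fun χ => w χ ≠ 0) ↔ χ ∈ ({χ₁, χ₂, χ₃} : Finset (IrrCharacter Fi23)) := by rw [hS]
    simpa using h
  -- the properties of the three degrees
  have hprop : ∀ χ, w χ ≠ 0 → ∃ m ∈ LM, charDegree (χ : Fi23 → ℂ) = 531441 * m := by
    intro χ hχ
    have h3 : ¬ ((3 : ℕ) : ℤ) ∣ w χ := by
      rcases hpm χ hχ with h | h <;> rw [h] <;> norm_num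
    have o7 : orderOf ((a7 : ↥CC) : Fi23) = 7 := by rw [Subgroup.orderOf_coe, order_a7]
    have o13 : orderOf ((a13 : ↥CC) : Fi23) = 13 := by rw [Subgroup.orderOf_coe, order_a13]
    have c7 : ∀ s : ↥CC, IsConj ((a7 : ↥CC) : Fi23) s → IsConj a7 s := fun s hs =>
      conj7 a7 s order_a7 ((orderOf_conj hs).trans order_a7)
    have c13 : ∀ s : ↥CC, IsConj ((a13 : ↥CC) : Fi23) s → IsConj a13 s := fun s hs =>
      conj13 a13 s order_a13 ((orderOf_conj hs).trans order_a13) hs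
    obtain ⟨S7, hS7, e7⟩ := res_of θ hθ (q := 8320) c7 (index_of (cent7 a7 order_a7) (by norm_num) (by norm_num))
      (by norm_num) (theta7 θ hθ a7 order_a7)
    obtain ⟨S13, hS13, e13⟩ := res_of θ hθ (q := 8960) c13 (index_of (cent13 a13 order_a13) (by norm_num)
      (by norm_num)) (by norm_num) (theta13 θ hθ a13 order_a13)
    have k7 := hw3 χ h3 ((a7 : ↥CC) : Fi23) (by rw [o7]; norm_num)
    have k13 := hw3 χ h3 ((a13 : ↥CC) : Fi23) (by rw [o13]; norm_num)
    rw [e7] at k7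
    rw [e13] at k13
    obtain ⟨n7, t7⟩ := nonvan hS7 k7
    obtain ⟨n13, -⟩ := nonvan hS13 k13
    exact exists_m χ (t7 (by rw [index7]; norm_num)) (not_dvd_of (by norm_num) fac7 χ o7 n7)
      (not_dvd_of (by norm_num) fac13 χ o13 n13)
  obtain ⟨m₁, hm₁, e₁⟩ := hprop χ₁ ((hmem χ₁).2 (Or.inl rfl))
  obtain ⟨m₂, hm₂, e₂⟩ := hprop χ₂ ((hmem χ₂).2 (Or.inr (Or.inl rfl)))
  obtain ⟨m₃, hm₃, e₃⟩ := hprop χ₃ ((hmem χ₃).2 (Or.inr (Or.inr rfl)))
  have hsum : w χ₁ * m₁ + w χ₂ * m₂ + w χ₃ * m₃ = 0 := by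
    have h1 : ∑ χ : IrrCharacter Fi23, (w χ : ℂ) * (χ : Fi23 → ℂ) 1 =
        ∑ χ ∈ ({χ₁, χ₂, χ₃} : Finset (IrrCharacter Fi23)), (w χ : ℂ) * (χ : Fi23 → ℂ) 1 := by
      symm
      refine Finset.sum_subset (Finset.subset_univ _) fun χ _ hχ => ?_
      have h2 : w χ = 0 := by
        by_contra h
        exact hχ (by rw [← hS, Finset.mem_filter]; exact ⟨Finset.mem_univ _, h⟩)
      rw [h2]
      simp
    rw [h1, Finset.sum_insert (by simp [h12, h13]), Finset.sum_insert (by simp [h23]), Finset.sum_singleton,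
      Blocks.Knorr.charDegree_eq χ₁.2, Blocks.Knorr.charDegree_eq χ₂.2, Blocks.Knorr.charDegree_eq χ₃.2, e₁, e₂, e₃]
      at hd1
    have h2 : (531441 : ℤ) * (w χ₁ * m₁ + w χ₂ * m₂ + w χ₃ * m₃) = 0 := by
      have h3 : ((531441 * (w χ₁ * m₁ + w χ₂ * m₂ + w χ₃ * m₃) : ℤ) : ℂ) = ((0 : ℤ) : ℂ) := by
        push_cast
        push_cast at hd1
        linear_combination hd1
      exact_mod_cast h3
    omega
  have key : m₁ = 391 ∨ m₂ = 391 ∨ m₃ = 391 := by
    have p₁ : 0 < m₁ := by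
      rcases Nat.eq_zero_or_pos m₁ with h | h
      · rw [h] at hm₁; exact absurd hm₁ (by decide)
      · exact h
    have p₂ : 0 < m₂ := by
      rcases Nat.eq_zero_or_pos m₂ with h | h
      · rw [h] at hm₂; exact absurd hm₂ (by decide)
      · exact h
    have p₃ : 0 < m₃ := by
      rcases Nat.eq_zero_or_pos m₃ with h | h
      · rw [h] at hm₃; exact absurd hm₃ (by decide)
      · exact h
    have q₁ := hpm χ₁ ((hmem χ₁).2 (Or.inl rfl))
    have q₂ := hpm χ₂ ((hmem χ₂).2 (Or.inr (Or.inl rfl)))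
    have q₃ := hpm χ₃ ((hmem χ₃).2 (Or.inr (Or.inr rfl)))
    have h : m₁ = m₂ + m₃ ∨ m₂ = m₁ + m₃ ∨ m₃ = m₁ + m₂ := by
      rcases q₁ with q₁ | q₁ <;> rcases q₂ with q₂ | q₂ <;> rcases q₃ with q₃ | q₃ <;> rw [q₁, q₂, q₃] at hsum <;> omega
    rcases h with h | h | h
    · exact triple _ hm₁ _ hm₂ _ hm₃ h
    · have := triple _ hm₂ _ hm₁ _ hm₃ h
      tauto
    · have := triple _ hm₃ _ hm₁ _ hm₂ h
      tauto
  rcases key with h | h | h
  · exact ⟨χ₁, by rw [e₁, h]⟩
  · exact ⟨χ₂, by rw [e₂, h]⟩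
  · exact ⟨χ₃, by rw [e₃, h]⟩

end Cfsg.Agent.H343.LD.RowP
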