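import Cfsg.Agent.H343.LD.SieveQVals

/-!
# `Fi₂₃`: the degrees with opposite signs modulo 17 and 23 (helper536, task E of row Fi23 of S4910)

`sieveQ` : such a degree is 504627200, 52540488 or 5987520, with the possible values at 2A, 2B, 3A in the last two cases.
-/

set_option autoImplicit false
set_option maxRecDepth 100000

namespace Cfsg.Agent.H343.LD.SieveQ

open Cfsg Subgroup
open Cfsg.Agent.Characters.Core
open Cfsg.Agent.H935.Fi23 (rs rs_of)
open Cfsg.Spor (Fi23)

/-- the divisors of the order prime to 17 and 23 -/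
def L : List ℕ := ((List.range 19).map fun i => 2 ^ i).flatMap fun a => ((List.range 14).map fun i => 3 ^ i).flatMap
  fun b => [1, 5, 25].flatMap fun c => [1, 7].flatMap fun d => [1, 11].flatMap fun e => [1, 13].map fun f =>
    a * b * c * d * e * f

theorem mem_L {n : ℕ} (h : n ∣ 2 ^ 18 * (3 ^ 13 * (5 ^ 2 * (7 * (11 * 13))))) : n ∈ L := by
  obtain ⟨a, m1, ha, h2, rfl⟩ := (Nat.dvd_mul).1 h
  obtain ⟨b, m2, hb, h3, rfl⟩ := (Nat.dvd_mul).1 h2
  obtain ⟨c, m3, hc, h4, rfl⟩ := (Nat.dvd_mul).1 h3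
  obtain ⟨d, m4, hd, h5, rfl⟩ := (Nat.dvd_mul).1 h4
  obtain ⟨e, f, he, hf, rfl⟩ := (Nat.dvd_mul).1 h5
  have ha' : a ∈ ((List.range 19).map fun i => 2 ^ i) := by
    obtain ⟨i, hi, rfl⟩ := (Nat.dvd_prime_pow Nat.prime_two).1 ha
    exact List.mem_map.2 ⟨i, List.mem_range.2 (by omega), rfl⟩
  have hb' : b ∈ ((List.range 14).map fun i => 3 ^ i) := by
    obtain ⟨i, hi, rfl⟩ := (Nat.dvd_prime_pow Nat.prime_three).1 hb
    exact List.mem_map.2 ⟨i, List.mem_range.2 (by omega), rfl⟩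
  have hc' : c ∈ [1, 5, 25] := by
    obtain ⟨i, hi, rfl⟩ := (Nat.dvd_prime_pow Nat.prime_five).1 hc
    interval_cases i <;> decide
  have hd' : d ∈ [1, 7] := by
    rcases (Nat.dvd_prime (by norm_num)).1 hd with rfl | rfl <;> decide
  have he' : e ∈ [1, 11] := by
    rcases (Nat.dvd_prime (by norm_num)).1 he with rfl | rfl <;> decide
  have hf' : f ∈ [1, 13] := by
    rcases (Nat.dvd_prime (by norm_num)).1 hf with rfl | rfl <;> decide
  unfold L
  simp only [List.mem_flatMap, List.mem_map (b := a * (b * (c * (d * (e * f)))))]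
  exact ⟨a, ha', b, hb', c, hc', d, hd', e, he', f, hf', by ring⟩

def LC : List ℕ := [93312, 205920, 663390, 1257984, 5987520, 52540488, 173210400, 328458240, 504627200, 1519921260]

def cond (n : ℕ) : Bool := ((n % 17 == 1 && n % 23 == 22) || (n % 17 == 16 && n % 23 == 1)) &&
  (rs n && Nat.ble (n * n) 4089470473293004800)

theorem cond_check : (L.all fun n => !cond n || LC.contains n) = true := by decide +kernel

theorem mem_LC {n : ℕ} (hd : n ∣ 4089470473293004800)
    (h : (n % 17 = 1 ∧ n % 23 = 22) ∨ (n % 17 = 16 ∧ n % 23 = 1)) (hr : rs n = true)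
    (hn : n * n ≤ 4089470473293004800) : n ∈ LC := by
  have h17 : Nat.Coprime n 17 := ((Nat.Prime.coprime_iff_not_dvd (by norm_num)).2 (by omega)).symm
  have h23 : Nat.Coprime n 23 := ((Nat.Prime.coprime_iff_not_dvd (by norm_num)).2 (by omega)).symm
  have h1 : n ∣ 17 * (23 * (2 ^ 18 * (3 ^ 13 * (5 ^ 2 * (7 * (11 * 13)))))) := by
    have e1 : 17 * (23 * (2 ^ 18 * (3 ^ 13 * (5 ^ 2 * (7 * (11 * 13)))))) = 4089470473293004800 := by norm_num
    rw [e1]
    exact hd
  have h2 := mem_L (h23.dvd_of_dvd_mul_left (h17.dvd_of_dvd_mul_left h1))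
  have h3 := (List.all_eq_true.1 cond_check) n h2
  have h4 : cond n = true := by
    unfold cond
    rw [hr, Nat.ble_eq_true_of_le hn]
    simpa only [Bool.and_true, Bool.and_eq_true, Bool.or_eq_true, beq_iff_eq] using h
  rw [h4, Bool.not_true, Bool.false_or] at h3
  simpa using h3

/-- **[task E]** -/
theorem sieveQ (χ : IrrCharacter Fi23)
    (h : (charDegree (χ : Fi23 → ℂ) % 17 = 1 ∧ charDegree (χ : Fi23 → ℂ) % 23 = 22) ∨
      (charDegree (χ : Fi23 → ℂ) % 17 = 16 ∧ charDegree (χ : Fi23 → ℂ) % 23 = 1)) :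
    charDegree (χ : Fi23 → ℂ) = 504627200 ∨
      (∃ b c : ℤ, Cfsg.Agent.H174.Ore.Fi23Rk.Vals χ 52540488 648648 b c ∧
        (b = 57288 ∨ b = 234696 ∨ b = -120120)) ∨
      (∃ b c i : ℤ, Cfsg.Agent.H174.Ore.Fi23Rk.Vals χ 5987520 (-221760) b c ∧ c = -24759 + 2457 * i ∧
        b = 271040 - 19712 * i) := by
  have hfin := Cfsg.Agent.KFacts.FiTTh.BasInv.finite
  have hχ : (χ : Fi23 → ℂ) ≠ 1 := by
    intro h1
    have h2 : charDegree (χ : Fi23 → ℂ) = 1 := by
      apply Cfsg.Agent.Blocks.Basic.charDegree_of_eq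
      rw [h1, Pi.one_apply, Nat.cast_one]
    rw [h2] at h
    omega
  obtain ⟨n, a, b, c, d, V, hE⟩ := exists_cond χ hχ
  have hdeg : (charDegree (χ : Fi23 → ℂ) : ℤ) = n := V.deg
  have hdvd : charDegree (χ : Fi23 → ℂ) ∣ 4089470473293004800 := by
    rw [← Cfsg.Agent.LThreeFi23.card_G]
    exact Cfsg.Agent.Blocks.CyclicUpper.charDegree_dvd χ.2
  have hsq : charDegree (χ : Fi23 → ℂ) * charDegree (χ : Fi23 → ℂ) ≤ 4089470473293004800 := by
    have h2 := SmallSimple.InvolColumn.sum_norm_sq_le {χ} (1 : Fi23)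
    rw [Finset.sum_singleton, Cfsg.Agent.Blocks.Basic.irr_one_eq_charDegree χ.2, Complex.norm_natCast] at h2
    have h3 : Nat.card (centralizer ({(1 : Fi23)} : Set Fi23)) ≤ Nat.card Fi23 :=
      Nat.card_le_card_of_injective _ Subtype.val_injective
    rw [Cfsg.Agent.LThreeFi23.card_G] at h3
    have h4 : ((charDegree (χ : Fi23 → ℂ) : ℕ) : ℝ) ^ 2 ≤ ((4089470473293004800 : ℕ) : ℝ) :=
      h2.trans (by exact_mod_cast h3)
    have h5 : charDegree (χ : Fi23 → ℂ) ^ 2 ≤ 4089470473293004800 := by exact_mod_cast h4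
    rwa [pow_two] at h5
  have hm := mem_LC hdvd h (rs_of χ) hsq
  generalize charDegree (χ : Fi23 → ℂ) = m at hdeg hm
  subst hdeg
  simp only [LC, List.mem_cons, List.not_mem_nil, or_false] at hm
  rcases hm with rfl | rfl | rfl | rfl | rfl | rfl | rfl | rfl | rfl | rfl
  · exact (no_93312 hE).elim
  · exact (no_205920 hE).elim
  · exact (no_663390 hE).elim
  · exact (no_1257984 hE).elim
  · right; right
    obtain ⟨h1, i, h2, h3⟩ := sol_G hE
    subst h1
    exact ⟨b, c, i, V, h2, h3⟩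
  · right; left
    obtain ⟨h1, h2⟩ := sol_A hE
    subst h1
    exact ⟨b, c, V, h2⟩
  · exact (no_173210400 hE).elim
  · exact (no_328458240 hE).elim
  · exact Or.inl rfl
  · exact (no_1519921260 hE).elim

end Cfsg.Agent.H343.LD.SieveQ
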