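import Cfsg.Agent.H954.LD.Row
import Cfsg.Agent.H343.LD.RowP
import Cfsg.Agent.H343.LD.Neg
import Cfsg.Agent.H343.LD.SieveQ
import Cfsg.Agent.H343.LD.KA
import Cfsg.Agent.H343.LD.KB
import Cfsg.Agent.H55.OutGen
import Cfsg.Agent.H670.PSing
import Cfsg.Agent.S2080

/-!
# S4910, the row `Fi₂₃` (helper343)

The coprime degrees `504627200 = 2¹⁸ · 5² · 7 · 11` and `207793431 = 3¹² · 17 · 23`.
-/

set_option autoImplicit false

namespace Cfsg.Agent.H343.LD

open Cfsg Cfsg.Agent.H954.LD Cfsg.Agent.Characters.Core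
open Cfsg.Spor (Fi23)

universe u

/-- **an irreducible character of degree `2¹⁸ · 5² · 7 · 11`** -/
theorem exists_Q : ∃ χ : IrrCharacter Fi23, charDegree (χ : Fi23 → ℂ) = 504627200 := by
  obtain ⟨χ, hχ⟩ := exists_neg
  refine ⟨χ, ?_⟩
  rcases SieveQ.sieveQ χ hχ with h | ⟨b, c, V, hb⟩ | ⟨b, c, i, V, hc, hb⟩
  · exact h
  · exact (KA.killA V hb).elim
  · exact (KB.killB V hc hb).elim

/-- transport of a degree along an isomorphism -/
theorem exists_deg {S : Type u} [Group S] {T : Type} [Group T] (e : S ≃* T) {d : ℕ}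
    (h : ∃ χ : IrrCharacter T, charDegree (χ : T → ℂ) = d) : ∃ χ : IrrCharacter S, charDegree (χ : S → ℂ) = d := by
  obtain ⟨χ, hχ⟩ := h
  refine ⟨⟨(χ : T → ℂ) ∘ e.toMonoidHom, isIrr_comp e.toMonoidHom e.surjective χ.2⟩, ?_⟩
  apply Cfsg.Agent.H670.PSing.charDegree_eq_of
  show (χ : T → ℂ) (e 1) = _
  rw [map_one, Blocks.Basic.irr_one_eq_charDegree χ.2, hχ]

/-- **The row `Fi₂₃` of S4910.** -/
theorem row_Fi23 {S : Type u} [Group S] [Finite S] [IsSimpleGroup S] (hna : ¬ IsMulCommutative S) (h : Spor.IsoFi23 S) :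
    CopRow S := by
  obtain ⟨e⟩ := h
  have h1 : Nat.card (Out S) = 1 := by rw [H55.OutGen.card_out_congr e]; exact S2080.result
  obtain ⟨α, hα⟩ := exists_deg e exists_Q
  obtain ⟨β, hβ⟩ := exists_deg e RowP.exists_P
  exact copRow_one hna h1 (α := α) (β := β) (by rw [hα]; norm_num) (by rw [hβ]; norm_num)
    (by rw [hα, hβ]; norm_num)

end Cfsg.Agent.H343.LD
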