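import Cfsg.Agent.H692.Ore.Fi23C

/-!
# `Fi₂₃`: bounds for the centralizers of 2A, 2B, 2C (helper536, task E of row Fi23 of S4910)
-/

set_option autoImplicit false
set_option maxRecDepth 100000
set_option linter.constructorNameAsVariable false

namespace Cfsg.Agent.H343.LD.SieveQ

open Subgroup Cfsg
open Cfsg.Agent.Lib.PermNet hiding tau
open Cfsg.Agent.Lib.PermNetFix Cfsg.Agent.Lib.PermNetOrbit
open Cfsg.Agent.Fischer.Fi23Z Cfsg.Agent.Fischer.Fi23Hom Cfsg.Agent.Fischer.Fi23Orb Cfsg.Agent.Fischer.Fi23Rel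
open Cfsg.Agent.Fischer Cfsg.Agent.Fischer.Fi23Class Cfsg.Agent.Fischer.Fi23Simple Cfsg.Agent.Fischer.Fi23OrbData
open Cfsg.Agent.KFacts.FiTTh.Cent
open Cfsg.Agent.KFacts.FiTTh.BasFi (e e_a e_c e_z e_sq e_comm fix_of_comm comm_of_fix ptgen full octB_mem pre)
open Cfsg.Agent.KFacts.FiTTh.BasChk (lab octB v2 dfix1 dm1 dlt1 dfix2 dm2 dlt2)
open Cfsg.Agent.LThreeFi23 (Lt el elw elw_cons elw_nil act_lt)
open Cfsg.Agent.H692.Ore.Fi23B
open Cfsg.Agent.H692.Ore.Fi23C (card_C3 P3 mem_P3 perm_P3 orb_finite)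
open Cfsg.Spor Cfsg.Spor.Fi23

theorem card_C1 : Nat.card (stabL rho [0]) ≤ 129123503308800 := by
  have h0 := stabL_step_of_check (k := 15) rho [] 0 31671 9 (nw_ok w0) (nw_img w0) cfix0 cm0 clt0
  have h6 : Nat.card (stabL rho []) ≤ Nat.card Fi23 :=
    Nat.card_le_card_of_injective _ Subtype.val_injective
  rw [card_Fi23] at h6
  omega

theorem card_C2 : Nat.card (stabL rho [11589, 0]) ≤ 36787322880 := by
  have h0 := stabL_step_of_check (k := 15) rho [] 0 31671 9 (nw_ok w0) (nw_img w0) cfix0 cm0 clt0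
  have h1 := stabL_step_of_check (k := 15) rho [0] 11589 3510 8 (nw_ok w1) (nw_img w1) dfix1 dm1 dlt1
  have h6 : Nat.card (stabL rho []) ≤ Nat.card Fi23 :=
    Nat.card_le_card_of_injective _ Subtype.val_injective
  rw [card_Fi23] at h6
  have h7 : 111165210 * Nat.card (stabL rho [11589, 0]) ≤ 4089470473293004800 := by
    calc 111165210 * Nat.card (stabL rho [11589, 0])
        = 31671 * (3510 * Nat.card (stabL rho [11589, 0])) := by ring
      _ ≤ 31671 * Nat.card (stabL rho [0]) := by gcongr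
      _ ≤ Nat.card (stabL rho []) := h0
      _ ≤ 4089470473293004800 := h6
  omega

theorem card_le_of_le {A B : Subgroup Fi23} (h : A ≤ B) : Nat.card A ≤ Nat.card B :=
  Nat.card_le_card_of_injective _ (Subgroup.inclusion_injective h)

/-- 2A -/
theorem cent_z0 : Nat.card (centralizer ({z0} : Set Fi23)) ≤ 129123503308800 := by
  refine le_trans (card_le_of_le fun y hy => ?_) card_C1
  rw [mem_stabL]
  intro q hq
  rw [List.mem_singleton.1 hq]
  have h1 : rho y (rho 1 0) = rho 1 0 := by
    rw [fixes_iff, one_mul, inv_one, mul_one]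
    exact mem_centralizer_singleton_iff.1 hy
  simpa using h1

/-- 2B -/
theorem cent_W2 : Nat.card (centralizer ({W2} : Set Fi23)) ≤ 73574645760 := by
  have h1 := orb_card (centralizer ({W2} : Set Fi23)) 0
  have h2 : {q : ℕ | ∃ x ∈ centralizer ({W2} : Set Fi23), rho x 0 = q} ⊆ (({0, 11589} : Finset ℕ) : Set ℕ) := by
    rintro q ⟨x, hx, rfl⟩
    rcases swap_or (mem_centralizer_singleton_iff.1 hx) with h | h
    · rw [h.1]; simp
    · rw [h.1]; simp
  have h3 := Set.ncard_le_ncard h2 (Finset.finite_toSet _)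
  rw [Set.ncard_coe_finset, show ({0, 11589} : Finset ℕ).card = 2 by decide] at h3
  have h4 : (centralizer ({W2} : Set Fi23)) ⊓ St 0 ≤ stabL rho [11589, 0] := by
    rintro x ⟨hx, hx0⟩
    have hx0' : rho x 0 = 0 := hx0
    rw [mem_stabL]
    intro q hq
    simp only [List.mem_cons, List.not_mem_nil, or_false] at hq
    rcases swap_or (mem_centralizer_singleton_iff.1 hx) with h | h
    · rcases hq with rfl | rfl
      · exact h.2
      · exact h.1
    · exfalso
      have h5 := h.1
      rw [hx0'] at h5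
      exact absurd h5 (by decide)
  have h5 := (card_le_of_le h4).trans card_C2
  rw [← h1]
  calc _ ≤ 36787322880 * 2 := Nat.mul_le_mul h5 h3
    _ = _ := by norm_num

/-- 2C -/
theorem cent_W3 : Nat.card (centralizer ({W3} : Set Fi23)) ≤ 318504960 := by
  have h1 := orb_card (centralizer ({W3} : Set Fi23)) 0
  have h2 : {q : ℕ | ∃ x ∈ centralizer ({W3} : Set Fi23), rho x 0 = q} ⊆ (({0, 8003, 11589} : Finset ℕ) : Set ℕ) := by
    rintro q ⟨x, hx, rfl⟩
    exact (perm_P3 (mem_centralizer_singleton_iff.1 hx)).1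
  have h3 := Set.ncard_le_ncard h2 (Finset.finite_toSet _)
  rw [Set.ncard_coe_finset, show ({0, 8003, 11589} : Finset ℕ).card = 3 by decide] at h3
  have k1 := orb_card ((centralizer ({W3} : Set Fi23)) ⊓ St 0) 11589
  have k2 : {q : ℕ | ∃ x ∈ (centralizer ({W3} : Set Fi23)) ⊓ St 0, rho x 11589 = q} ⊆
      (({8003, 11589} : Finset ℕ) : Set ℕ) := by
    rintro q ⟨x, ⟨hx, hx0⟩, rfl⟩
    have hx0' : rho x 0 = 0 := hx0
    have h4 := (perm_P3 (mem_centralizer_singleton_iff.1 hx)).2.2
    rw [mem_P3] at h4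
    have h5 : rho x 11589 ≠ 0 := by
      intro h
      have := (rho x).injective (h.trans hx0'.symm)
      exact absurd this (by decide)
    rcases h4 with h4 | h4 | h4
    · exact (h5 h4).elim
    · rw [h4]; simp
    · rw [h4]; simp
  have k3 := Set.ncard_le_ncard k2 (Finset.finite_toSet _)
  rw [Set.ncard_coe_finset, show ({8003, 11589} : Finset ℕ).card = 2 by decide] at k3
  have k4 : ((centralizer ({W3} : Set Fi23)) ⊓ St 0) ⊓ St 11589 ≤ stabL rho [8003, 11589, 0] := by
    rintro x ⟨⟨hx, hx0⟩, hxa⟩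
    have hx0' : rho x 0 = 0 := hx0
    have hxa' : rho x 11589 = 11589 := hxa
    have h4 := (perm_P3 (mem_centralizer_singleton_iff.1 hx)).2.1
    rw [mem_P3] at h4
    have h5 : rho x 8003 ≠ 0 := by
      intro h
      have := (rho x).injective (h.trans hx0'.symm)
      exact absurd this (by decide)
    have h6 : rho x 8003 ≠ 11589 := by
      intro h
      have := (rho x).injective (h.trans hxa'.symm)
      exact absurd this (by decide)
    rw [mem_stabL]
    intro q hq
    simp only [List.mem_cons, List.not_mem_nil, or_false] at hq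
    rcases hq with rfl | rfl | rfl
    · rcases h4 with h4 | h4 | h4
      · exact (h5 h4).elim
      · exact h4
      · exact (h6 h4).elim
    · exact hxa'
    · exact hx0'
  have k5 := (card_le_of_le k4).trans card_C3
  have k6 : Nat.card ((centralizer ({W3} : Set Fi23)) ⊓ St 0 : Subgroup Fi23) ≤ 106168320 := by
    rw [← k1]
    calc _ ≤ 53084160 * 2 := Nat.mul_le_mul k5 k3
      _ = _ := by norm_num
  rw [← h1]
  calc _ ≤ 106168320 * 3 := Nat.mul_le_mul k6 h3
    _ = _ := by norm_num

end Cfsg.Agent.H343.LD.SieveQ
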