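import Cfsg.Agent.H856.F23.Vals

/-!
# The degrees of `Fi₂₃` with opposite signs modulo 17 and 23: enumeration (helper536, task E of row Fi23 of S4910)

`E n a b c d` : the conditions on the degree `n` and the values `a, b, c, d` at 2A, 2B, 3A, 2C.
`chk_sound` : a check of a property of `(a, b, c)` for a given `n`.
-/

set_option autoImplicit false
set_option maxRecDepth 100000

namespace Cfsg.Agent.H343.LD.SieveQ

open Cfsg.Agent.H856.F23 (C7 C11 C13)

/-- the conditions -/
structure E (n a b c d : ℤ) : Prop where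
  pos : 0 < n
  ha : |a| ≤ n
  ane : a ≠ n
  a2 : a * a ≤ 129123503308800
  b2 : b * b ≤ 73574645760
  c2 : c * c ≤ 13756055040
  d2 : d * d ≤ 318504960
  rel : 31671 * (a * a) = n * (n + 3510 * b + 28160 * c)
  psd1 : 0 ≤ n + 351 * b - 352 * c
  psd2 : 0 ≤ n - 9 * b + 8 * c
  dvd_a : n ∣ 31671 * a
  dvd_b : n ∣ 55582605 * b
  dvd_c : n ∣ 297285120 * c
  q1 : ∃ m : ℕ, n + 2 * a + b = 4 * m
  q2 : ∃ m : ℕ, n - 2 * a + b = 4 * m
  s1 : ∃ m : ℕ, n + 3 * a + 2 * c = 6 * m
  s2 : ∃ m : ℕ, n - 3 * a + 2 * c = 6 * m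
  s3 : ∃ m : ℕ, n - c = 3 * m
  c7 : C7 n a b c = true
  c13 : C13 n a c = true
  c11 : C11 n a b = true
  w0 : ∃ m : ℕ, (2048 * m : ℤ) = n + 23 * a + 253 * b + 1771 * d
  w8 : ∃ m : ℕ, (2048 * m : ℤ) = n + 7 * a + 13 * b - 21 * d
  w12 : ∃ m : ℕ, (2048 * m : ℤ) = n - a - 11 * b + 11 * d
  w16 : ∃ m : ℕ, (2048 * m : ℤ) = n - 9 * a + 29 * b - 21 * d

/-- the conditions on `(n, a, b, c)`; `|d| ≤ 17846` -/
def tst (n a b c : ℤ) : Bool :=
  ((55582605 * b) % n == 0) && (((20 * n - 23 * a - 253 * b) % 256 == 0) && (((297285120 * c) % n == 0) &&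
  (((4 * n + 7 * a - 11 * b) % 256 == 0) && (((4 * n - 15 * a + 11 * b) % 256 == 0) &&
  (decide (c * c ≤ 13756055040) && (decide (b * b ≤ 73574645760) && (decide (0 ≤ n + 351 * b - 352 * c) &&
  (decide (0 ≤ n - 9 * b + 8 * c) && (decide (0 ≤ n + 2 * a + b) && (decide (0 ≤ n - 2 * a + b) &&
  (decide (0 ≤ n + 3 * a + 2 * c) && (decide (0 ≤ n - 3 * a + 2 * c) && (((n - c) % 3 == 0) &&
  (((n + 3 * a + 2 * c) % 6 == 0) && (((n - 3 * a + 2 * c) % 6 == 0) && (((n + 2 * a + b) % 4 == 0) &&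
  (((n - 2 * a + b) % 4 == 0) && (decide (0 ≤ n + 23 * a + 253 * b + 1771 * 17846) &&
  (decide (0 ≤ n + 7 * a + 13 * b + 21 * 17846) && (decide (0 ≤ n - a - 11 * b + 11 * 17846) &&
  (decide (0 ≤ n - 9 * a + 29 * b + 21 * 17846) && (C7 n a b c && (C13 n a c && C11 n a b)))))))))))))))))))))))

theorem mod_a {n a b d k0 k12 : ℤ} (g0 : 2048 * k0 = n + 23 * a + 253 * b + 1771 * d)
    (g12 : 2048 * k12 = n - a - 11 * b + 11 * d) : (20 * n - 23 * a - 253 * b) % 256 = 0 :=
  Int.emod_eq_zero_of_dvd ⟨161 * k12 - k0, by linarith⟩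

theorem mod_b {n a b d k8 k12 : ℤ} (g8 : 2048 * k8 = n + 7 * a + 13 * b - 21 * d)
    (g12 : 2048 * k12 = n - a - 11 * b + 11 * d) : (4 * n + 7 * a - 11 * b) % 256 = 0 :=
  Int.emod_eq_zero_of_dvd ⟨11 * k8 + 21 * k12, by linarith⟩

theorem mod_c {n a b d k16 k12 : ℤ} (g16 : 2048 * k16 = n - 9 * a + 29 * b - 21 * d)
    (g12 : 2048 * k12 = n - a - 11 * b + 11 * d) : (4 * n - 15 * a + 11 * b) % 256 = 0 :=
  Int.emod_eq_zero_of_dvd ⟨11 * k16 + 21 * k12, by linarith⟩

theorem mod_l {x m l : ℤ} (h : x = l * m) : x % l = 0 := by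
  rw [h]
  exact Int.mul_emod_right l m

theorem pos_l {x l : ℤ} {m : ℕ} (hl : 0 ≤ l) (h : x = l * m) : 0 ≤ x := by
  rw [h]
  positivity

theorem d_le {n a b c d : ℤ} (h : E n a b c d) : d ≤ 17846 ∧ -17846 ≤ d := by
  have h2 := h.d2
  constructor
  · by_contra hcon
    push Not at hcon
    nlinarith
  · by_contra hcon
    push Not at hcon
    nlinarith

theorem tst_of {n a b c d : ℤ} (h : E n a b c d) : tst n a b c = true := by
  obtain ⟨e1, e2⟩ := d_le h
  have t1 := Int.emod_eq_zero_of_dvd h.dvd_b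
  have t3 := Int.emod_eq_zero_of_dvd h.dvd_c
  obtain ⟨k0, g0⟩ := h.w0
  obtain ⟨k8, g8⟩ := h.w8
  obtain ⟨k12, g12⟩ := h.w12
  obtain ⟨k16, g16⟩ := h.w16
  have t2 := mod_a g0 g12
  have t4 := mod_b g8 g12
  have t5 := mod_c g16 g12
  have p0 : (0 : ℤ) ≤ 2048 * k0 := by positivity
  have p8 : (0 : ℤ) ≤ 2048 * k8 := by positivity
  have p12 : (0 : ℤ) ≤ 2048 * k12 := by positivity
  have p16 : (0 : ℤ) ≤ 2048 * k16 := by positivity
  rw [g0] at p0
  rw [g8] at p8
  rw [g12] at p12
  rw [g16] at p16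
  have u1 : 0 ≤ n + 23 * a + 253 * b + 1771 * 17846 := by linarith
  have u2 : 0 ≤ n + 7 * a + 13 * b + 21 * 17846 := by linarith
  have u3 : 0 ≤ n - a - 11 * b + 11 * 17846 := by linarith
  have u4 : 0 ≤ n - 9 * a + 29 * b + 21 * 17846 := by linarith
  obtain ⟨m1, h1⟩ := h.q1
  obtain ⟨m2, h2⟩ := h.q2
  obtain ⟨m3, h3⟩ := h.s1
  obtain ⟨m4, h4⟩ := h.s2
  obtain ⟨m5, h5⟩ := h.s3
  have v1 := pos_l (by norm_num) h1
  have v2 := pos_l (by norm_num) h2
  have v3 := pos_l (by norm_num) h3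
  have v4 := pos_l (by norm_num) h4
  have w1 := mod_l h1
  have w2 := mod_l h2
  have w3 := mod_l h3
  have w4 := mod_l h4
  have w5 := mod_l h5
  unfold tst
  rw [t1, t2, t3, t4, t5, w1, w2, w3, w4, w5, h.c7, h.c13, h.c11, decide_eq_true h.c2, decide_eq_true h.b2,
    decide_eq_true h.psd1, decide_eq_true h.psd2, decide_eq_true v1, decide_eq_true v2, decide_eq_true v3,
    decide_eq_true v4, decide_eq_true u1, decide_eq_true u2, decide_eq_true u3, decide_eq_true u4]
  rfl

/-- the loop over `b` -/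
def loopB (out : ℤ → ℤ → ℤ → Bool) (n a R : ℤ) (J : ℕ) : Bool :=
  (List.range (2 * J + 1)).all fun j =>
    let b := (2463 * R) % 2816 + 2816 * ((j : ℤ) - J)
    let c := (R - 351 * b) / 2816
    !(tst n a b c) || out a b c

/-- the loop over `a` -/
def chk (out : ℤ → ℤ → ℤ → Bool) (n g G J : ℕ) : Bool :=
  (List.range (2 * G + 1)).all fun k =>
    let a : ℤ := g * ((k : ℤ) - G)
    let R : ℤ := (31671 * (a * a) / n - n) / 10
    (a == n) || (!(((n : ℤ) - a) % 32 == 0) || loopB out n a R J)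

theorem mem_all {p : ℕ → Bool} {m : ℕ} (h : (List.range m).all p = true) {i : ℕ} (hi : i < m) : p i = true :=
  List.all_eq_true.1 h i (List.mem_range.2 hi)

theorem loopB_sound {out : ℤ → ℤ → ℤ → Bool} {n a b c d R : ℤ} (h : E n a b c d) (hR : R = 351 * b + 2816 * c)
    {J : ℕ} (hJ : 271246 ≤ 2816 * J) (hl : loopB out n a R J = true) : out a b c = true := by
  have hb1 : b ≤ 271246 := by
    by_contra hcon
    push Not at hcon
    nlinarith [h.b2]
  have hb2 : -271246 ≤ b := by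
    by_contra hcon
    push Not at hcon
    nlinarith [h.b2]
  have e1 : b = (2463 * R) % 2816 + 2816 * (b / 2816) := by omega
  have h1 : -(J : ℤ) ≤ b / 2816 := by omega
  have h2 : b / 2816 ≤ J := by omega
  have h3 := mem_all hl (i := (b / 2816 + J).toNat) (by omega)
  have e2 : (((b / 2816 + J).toNat : ℕ) : ℤ) - J = b / 2816 := by omega
  simp only [e2, ← e1] at h3
  have e3 : (R - 351 * b) / 2816 = c := by omega
  rw [e3, tst_of h, Bool.not_true, Bool.false_or] at h3
  exact h3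

/-- **the check** -/
theorem chk_sound {out : ℤ → ℤ → ℤ → Bool} {n g G J : ℕ} (hg : ∀ a : ℤ, (n : ℤ) ∣ 31671 * a → (g : ℤ) ∣ a)
    (hG : n ≤ g * G ∨ 11363252 ≤ g * G) (hg0 : 0 < g) (hJ : 271246 ≤ 2816 * J) (hc : chk out n g G J = true)
    {a b c d : ℤ} (h : E n a b c d) : out a b c = true := by
  obtain ⟨k, hk⟩ := hg a h.dvd_a
  have ha := abs_le.1 h.ha
  have ha1 : a ≤ 11363252 := by
    by_contra hcon
    push Not at hcon
    nlinarith [h.a2]
  have ha2 : -11363252 ≤ a := by
    by_contra hcon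
    push Not at hcon
    nlinarith [h.a2]
  have hg0' : (0 : ℤ) < g := by exact_mod_cast hg0
  have hn' : (0 : ℤ) < n := h.pos
  have hb : a ≤ g * G ∧ -((g : ℤ) * G) ≤ a := by
    rcases hG with hG | hG
    · have hG' : (n : ℤ) ≤ g * G := by exact_mod_cast hG
      omega
    · have hG' : (11363252 : ℤ) ≤ g * G := by exact_mod_cast hG
      omega
  have h1 : -(G : ℤ) ≤ k := by
    by_contra hlt
    push Not at hlt
    nlinarith
  have h2 : k ≤ G := by
    by_contra hlt
    push Not at hlt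
    nlinarith
  have h3 := mem_all hc (i := (k + G).toNat) (by omega)
  have e2 : (((k + G).toNat : ℕ) : ℤ) - G = k := by omega
  have e3 : 31671 * (a * a) / (n : ℤ) = n + 3510 * b + 28160 * c := by
    rw [h.rel]
    exact Int.mul_ediv_cancel_left _ hn'.ne'
  simp only [e2, ← hk] at h3
  rw [e3] at h3
  have e4 : ((n : ℤ) + 3510 * b + 28160 * c - n) / 10 = 351 * b + 2816 * c := by omega
  rw [e4] at h3
  simp only [Bool.or_eq_true, beq_iff_eq, Bool.not_eq_true', beq_eq_false_iff_ne] at h3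
  rcases h3 with h3 | h3 | h3
  · exact (h.ane h3).elim
  · exfalso
    apply h3
    obtain ⟨k8, g8⟩ := h.w8
    obtain ⟨k12, g12⟩ := h.w12
    obtain ⟨k16, g16⟩ := h.w16
    have t4 := mod_b g8 g12
    have t5 := mod_c g16 g12
    clear h3 g8 g12 g16 e4 e3 e2 h1 h2 hb ha ha1 ha2 hg hG hc hJ
    omega
  · exact loopB_sound h rfl hJ h3

def dead : ℤ → ℤ → ℤ → Bool := fun _ _ _ => false

theorem no_93312 {a b c d : ℤ} (h : E 93312 a b c d) : False :=
  absurd (chk_sound (out := dead) (n := 93312) (g := 1152) (G := 81) (J := 97) (fun a ha => by omega) (Or.inl (by norm_num))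
    (by norm_num) (by norm_num) (by decide +kernel) h) (by simp [dead])

theorem no_205920 {a b c d : ℤ} (h : E 205920 a b c d) : False :=
  absurd (chk_sound (out := dead) (n := 205920) (g := 22880) (G := 9) (J := 97) (fun a ha => by omega) (Or.inl (by norm_num))
    (by norm_num) (by norm_num) (by decide +kernel) h) (by simp [dead])

theorem no_663390 {a b c d : ℤ} (h : E 663390 a b c d) : False :=
  absurd (chk_sound (out := dead) (n := 663390) (g := 8190) (G := 81) (J := 97) (fun a ha => by omega) (Or.inl (by norm_num))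
    (by norm_num) (by norm_num) (by decide +kernel) h) (by simp [dead])

theorem no_1257984 {a b c d : ℤ} (h : E 1257984 a b c d) : False :=
  absurd (chk_sound (out := dead) (n := 1257984) (g := 46592) (G := 27) (J := 97) (fun a ha => by omega) (Or.inl (by norm_num))
    (by norm_num) (by norm_num) (by decide +kernel) h) (by simp [dead])

theorem no_173210400 {a b c d : ℤ} (h : E 173210400 a b c d) : False :=
  absurd (chk_sound (out := dead) (n := 173210400) (g := 2138400) (G := 6) (J := 97) (fun a ha => by omega)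
    (Or.inr (by norm_num)) (by norm_num) (by norm_num) (by decide +kernel) h) (by simp [dead])

theorem no_328458240 {a b c d : ℤ} (h : E 328458240 a b c d) : False :=
  absurd (chk_sound (out := dead) (n := 328458240) (g := 4055040) (G := 3) (J := 97) (fun a ha => by omega)
    (Or.inr (by norm_num)) (by norm_num) (by norm_num) (by decide +kernel) h) (by simp [dead])

theorem no_1519921260 {a b c d : ℤ} (h : E 1519921260 a b c d) : False :=
  absurd (chk_sound (out := dead) (n := 1519921260) (g := 18764460) (G := 1) (J := 97) (fun a ha => by omega)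
    (Or.inr (by norm_num)) (by norm_num) (by norm_num) (by decide +kernel) h) (by simp [dead])

def outA : ℤ → ℤ → ℤ → Bool := fun a b _ => a == 648648 && (b == 57288 || (b == 234696 || b == -120120))

def outG : ℤ → ℤ → ℤ → Bool := fun a b c => a == -221760 && ((c + 24759) % 2457 == 0 &&
  b == 271040 - 19712 * ((c + 24759) / 2457))

theorem sol_A {a b c d : ℤ} (h : E 52540488 a b c d) : a = 648648 ∧ (b = 57288 ∨ b = 234696 ∨ b = -120120) := by
  have h1 := chk_sound (out := outA) (n := 52540488) (g := 648648) (G := 18) (J := 97) (fun a ha => by omega)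
    (Or.inr (by norm_num)) (by norm_num) (by norm_num) (by decide +kernel) h
  unfold outA at h1
  simpa only [Bool.and_eq_true, Bool.or_eq_true, beq_iff_eq] using h1

theorem sol_G {a b c d : ℤ} (h : E 5987520 a b c d) : a = -221760 ∧ ∃ i : ℤ, c = -24759 + 2457 * i ∧
    b = 271040 - 19712 * i := by
  have h1 := chk_sound (out := outG) (n := 5987520) (g := 73920) (G := 81) (J := 97) (fun a ha => by omega)
    (Or.inl (by norm_num)) (by norm_num) (by norm_num) (by decide +kernel) h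
  unfold outG at h1
  simp only [Bool.and_eq_true, beq_iff_eq] at h1
  exact ⟨h1.1, (c + 24759) / 2457, by omega, h1.2.2⟩

end Cfsg.Agent.H343.LD.SieveQ
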