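import Cfsg.Agent.H343.LD.SieveQNum
import Cfsg.Agent.H343.LD.SieveQCent
import Cfsg.Agent.H935.Fi23.Deg
import Cfsg.Agent.LThreeFi23.CentUuComp

/-!
# `Fi₂₃`: the conditions `E` for every nontrivial irreducible character (helper536, task E of row Fi23 of S4910)

Copied from helper935's `exists_d4` with the structure `Vals` and the centralizers of 2A, 2B, 2C, 3A.
-/

set_option autoImplicit false
set_option maxRecDepth 100000

namespace Cfsg.Agent.H343.LD.SieveQ

open Cfsg Subgroup Cfsg.Agent.KFacts.FiTTh.BasDef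
open Cfsg.Agent.KFacts.FiTTh.BasFi (e exists_e e_comm e_inj e_z e_g)
open Cfsg.Agent.KFacts.FiTTh.BasInv (base finite)
open Cfsg.Agent.Characters.Core
open Cfsg.Agent.Fischer.Fi23Z (z0)
open Cfsg.Agent.H511.Ore
open Cfsg.Agent.LThreeFi23 (el)
open Cfsg.Spor (Fi23)
open Cfsg.Agent.H935.Fi23 (isConj_e weights fixed_ge)

/-- **The conditions for an irreducible character.** -/
theorem exists_cond (χ : IrrCharacter Fi23) (hχ : (χ : Fi23 → ℂ) ≠ 1) :
    ∃ n a b c d : ℤ, Cfsg.Agent.H174.Ore.Fi23Rk.Vals χ n a b c ∧ E n a b c d := by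
  classical
  have := finite
  have := Cfsg.Agent.H856.F23.simp23
  have hcomm : commutator Fi23 = ⊤ := by
    have h1 : (commutator Fi23).Normal := inferInstance
    rcases h1.eq_bot_or_eq_top with h | h
    · exfalso
      apply Cfsg.Agent.H856.F23.not_comm23
      have h2 := (commutator_eq_bot_iff_center_eq_top Fi23).1 h
      refine ⟨⟨fun x y => ?_⟩⟩
      have h3 : x ∈ center Fi23 := by rw [h2]; trivial
      exact (mem_center_iff.1 h3 y).symm
    · exact h
  have hch := isIrr_isCharacter χ.2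
  obtain ⟨n, a, b, c, V⟩ := Cfsg.Agent.H174.Ore.Fi23Rk.exists_vals χ
  obtain ⟨f, A', B', T', -, ⟨h1, h2, h3, h4⟩, -, h5, h6, h7, h8, h9⟩ := Cfsg.Agent.H856.F23.vals χ
  have hn : (charDegree (χ : Fi23 → ℂ) : ℤ) = n := V.deg
  have hfn : (f : ℤ) = n := by
    have : ((f : ℤ) : ℂ) = ((n : ℤ) : ℂ) := by rw [← V.one, h1]; push_cast; rfl
    exact_mod_cast this
  have hcg : IsConj z0 (el .g) := by
    have h := isConj_e (p := some 4) (by simp)
    rw [e_g] at h
    exact h
  have hgz : el .g ≠ el .z := by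
    intro h
    have h' : e (some 4) = e (some 13) := by rw [e_g, e_z]; exact h
    exact absurd (e_inj h') (by decide)
  have hgzc : el .g * el .z = el .z * el .g := by
    have h := e_comm (some 4) (some 13)
    rw [e_g, e_z] at h
    exact h
  have hA : A' = a := by
    have h := V.val_d z0 (IsConj.refl _)
    have h' : ((A' : ℤ) : ℂ) = ((a : ℤ) : ℂ) := by rw [← h, ← h2]; rfl
    exact_mod_cast h'
  have hB : B' = b := by
    have h := V.val_c (el .g) (el .z) hcg (IsConj.refl _) hgz hgzc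
    have h' : ((B' : ℤ) : ℂ) = ((b : ℤ) : ℂ) := by rw [← h, ← h3]
    exact_mod_cast h'
  subst hA hB
  rw [hfn] at h5 h6 h7 h8 h9
  have hpos := V.pos
  have hT : T' = c := by
    have h := V.rel
    have h' : n * (n + 3510 * B' + 28160 * c) = n * (n + 3510 * B' + 28160 * T') := by
      rw [← h5, h]; ring
    have h'' := mul_left_cancel₀ hpos.ne' h'
    omega
  subst hT
  -- the involutions
  have hsq : ∀ T : Finset GolayPt, (pr e T) ^ 2 = 1 := fun T => by rw [pow_two]; exact base.pr_sq T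
  have hint : ∀ t : Fi23, t ^ 2 = 1 → ∃ z : ℤ, (χ : Fi23 → ℂ) t = z ∧ |z| ≤ n := by
    intro t ht
    obtain ⟨m, z, e1, e2, e3, -⟩ := SmallSimple.InvolColumn.exists_int_of_char hch ht
    refine ⟨z, e2, ?_⟩
    have : (m : ℤ) = n := by
      have h' : ((m : ℤ) : ℂ) = ((n : ℤ) : ℂ) := by rw [← V.one, e1]; push_cast; rfl
      exact_mod_cast h'
    rwa [← this]
  have n01 : (some 0 : GolayPt) ≠ some 1 := by decide
  obtain ⟨d, hd, hdn⟩ := hint (pr e {some 0, some 1, some 2}) (hsq _)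
  have hc0 : (χ : Fi23 → ℂ) 1 = n := V.one
  have hc1 : ∀ p : GolayPt, p ≠ none → (χ : Fi23 → ℂ) (e p) = A' := fun p hp => V.val_d _ (isConj_e hp)
  have hc2 : ∀ p q : GolayPt, p ≠ none → q ≠ none → p ≠ q → (χ : Fi23 → ℂ) (e p * e q) = B' := fun p q hp hq hpq =>
    V.val_c _ _ (isConj_e hp) (isConj_e hq) (fun h => hpq (e_inj h)) (e_comm p q)
  have hc3 : ∀ p q r : GolayPt, p ≠ none → q ≠ none → r ≠ none → p ≠ q → p ≠ r → q ≠ r →
      (χ : Fi23 → ℂ) (e p * e q * e r) = d := by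
    intro p q r hp hq hr hpq hpr hqr
    have h : e p * e q * e r = pr e {p, q, r} := by
      rw [base.pr_insert (by simp [hpq, hpr]), base.pr_pair hqr, mul_assoc]
    rw [h, ← hd]
    have hcard : ({p, q, r} : Finset GolayPt).card = 3 := Finset.card_eq_three.2 ⟨p, q, r, hpq, hpr, hqr, rfl⟩
    have hcard' : ({some 0, some 1, some 2} : Finset GolayPt).card = 3 := by decide
    obtain ⟨k, hk⟩ := isConj_iff.1 (Cfsg.Agent.H822.Ore.Fi23Row.isConj_pr (S := {p, q, r})
      (T := {some 0, some 1, some 2}) (by simp [hp.symm, hq.symm, hr.symm]) (by decide) (by rw [hcard, hcard'])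
      (by rw [hcard]; norm_num))
    rw [← hk]
    exact (isIrr_isClassFunction χ.2 _ k).symm
  have hB2 := hc2 (some 0) (some 1) (by simp) (by simp) n01
  obtain ⟨zb, hzb, hzbn⟩ := hint (e (some 0) * e (some 1)) (by rw [← base.pr_pair n01]; exact hsq _)
  have hzb' : zb = B' := by
    have h' : ((zb : ℤ) : ℂ) = ((B' : ℤ) : ℂ) := by rw [← hzb, ← hB2]
    exact_mod_cast h'
  have hz2 : z0 ^ 2 = 1 := by rw [pow_two, ← e_z]; exact Cfsg.Agent.KFacts.FiTTh.BasFi.e_sq _
  have hz1 : z0 ≠ 1 := by rw [← e_z]; exact Cfsg.Agent.KFacts.FiTTh.BasFi.e_ne_one _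
  obtain ⟨za, hza, hzan, -⟩ := SmallSimple.InvolColumn.exists_int hcomm χ.2 hχ hz2 hz1
  have hza' : za = A' := by
    have h := V.val_d z0 (IsConj.refl _)
    have h' : ((za : ℤ) : ℂ) = ((A' : ℤ) : ℂ) := by rw [← hza, ← h]
    exact_mod_cast h'
  rw [hza', hn] at hzan
  -- the weights
  have hres : IsCharacter (A e) (fun x : A e => (χ : Fi23 → ℂ) x) := isCharacter_comp (A e).subtype hch
  have k1 : ∀ p : GolayPt, p ≠ none → ∀ x : A e, (x : Fi23) = e p → (χ : Fi23 → ℂ) x = A' := fun p hp x hx => by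
    rw [hx]; exact hc1 p hp
  have k2 : ∀ p q : GolayPt, p ≠ none → q ≠ none → p ≠ q → ∀ x : A e, (x : Fi23) = e p * e q →
      (χ : Fi23 → ℂ) x = B' := fun p q hp hq hpq x hx => by
    rw [hx]; exact hc2 p q hp hq hpq
  have k3 : ∀ p q r : GolayPt, p ≠ none → q ≠ none → r ≠ none → p ≠ q → p ≠ r → q ≠ r →
      ∀ x : A e, (x : Fi23) = e p * e q * e r → (χ : Fi23 → ℂ) x = d := fun p q r hp hq hr hpq hpr hqr x hx => by
    rw [hx]; exact hc3 p q r hp hq hr hpq hpr hqr
  obtain ⟨w0, w8, w12, w16, e0, e8, e12, e16⟩ := weights base hres (n := n) (a := A') (b := B') (d := d) hc0 k1 k2 k3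
  -- the centralizers
  have sq_le : ∀ (g : Fi23) (z : ℤ) (N : ℕ), (χ : Fi23 → ℂ) g = z → Nat.card (centralizer ({g} : Set Fi23)) ≤ N →
      z * z ≤ N := by
    intro g z N hz hN
    have h2 := SmallSimple.InvolColumn.sum_norm_sq_le {χ} g
    rw [Finset.sum_singleton, hz, Complex.norm_intCast, sq_abs] at h2
    have h3 : ((Nat.card (centralizer ({g} : Set Fi23)) : ℕ) : ℝ) ≤ N := by exact_mod_cast hN
    have h4 : (z : ℝ) ^ 2 ≤ N := h2.trans h3
    have h5 : z ^ 2 ≤ N := by exact_mod_cast h4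
    nlinarith
  have ba : A' * A' ≤ 129123503308800 := by
    exact_mod_cast sq_le z0 A' 129123503308800 (V.val_d z0 (IsConj.refl _)) cent_z0
  have bb : B' * B' ≤ 73574645760 := by
    have h1 : (χ : Fi23 → ℂ) Cfsg.Agent.KFacts.FiTTh.Cent.W2 = B' := by
      have h2 := hc2 (some 13) (some 0) (by simp) (by simp) (by decide)
      rw [e_z, Cfsg.Agent.KFacts.FiTTh.BasFi.e_a] at h2
      exact h2
    exact_mod_cast sq_le _ B' 73574645760 h1 cent_W2
  have bc : T' * T' ≤ 13756055040 := by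
    have h1 : IsConj LThreeFi23.uu (el .j * el .z) := by
      have h2 := LThreeFi23.isConj_pair (p := 8006) (q := 0) (by norm_num) (by norm_num) (fun h3 =>
        LThreeFi23.ncom_zj ((LThreeFi23.com_comm (by norm_num) (by norm_num)).1 h3))
      rwa [LThreeFi23.T8006, LThreeFi23.T0] at h2
    exact_mod_cast sq_le _ T' 13756055040 h4 (LThreeFi23.card_C_of_conj h1).le
  have bd : d * d ≤ 318504960 := by
    have h1 : (χ : Fi23 → ℂ) Cfsg.Agent.KFacts.FiTTh.Cent.W3 = d := by
      rw [Cfsg.Agent.H692.Ore.Fi23C.W3_eq]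
      exact hc3 (some 13) (some 0) (some 1) (by simp) (by simp) (by simp) (by decide) (by decide) (by decide)
    exact_mod_cast sq_le _ d 318504960 h1 cent_W3
  refine ⟨n, A', B', T', d, V, ?_⟩
  exact {
    pos := hpos
    ha := hzan.le
    ane := fun h => by rw [h, abs_of_pos hpos] at hzan; exact lt_irrefl _ hzan
    a2 := ba
    b2 := bb
    c2 := bc
    d2 := bd
    rel := h5
    psd1 := V.psd1
    psd2 := V.psd2
    dvd_a := V.dvd_a
    dvd_b := V.dvd_b
    dvd_c := V.dvd_c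
    q1 := V.q1
    q2 := V.q2
    s1 := V.s1
    s2 := V.s2
    s3 := V.s3
    c7 := h7
    c13 := h8
    c11 := h9
    w0 := ⟨w0, e0⟩
    w8 := ⟨w8, e8⟩
    w12 := ⟨w12, e12⟩
    w16 := ⟨w16, e16⟩ }

end Cfsg.Agent.H343.LD.SieveQ
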